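import Cfsg.Agent.Omega.FFOne.OfNat
import Cfsg.Agent.Omega.CloseA.Close

/-!
# OMEGA / SQT, node SQ2 = FF-1: the exit `S = Q₁Q₂` of type `L₃(q)` or `Sp₄(q)`
-/

set_option autoImplicit false

open Subgroup

namespace Cfsg.Agent.Omega.FFOne.Mut

open Cfsg.Agent.Omega.NatPair Cfsg.Agent.Omega.CloseA

variable {G : Type*} [Group G] {P₁ P₂ Q₁ Q₂ V₁ V₂ D₁ D₂ : Subgroup G} {a : ℕ} {F₁ F₂ : Type} [Field F₁] [Field F₂]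
  {e₁ : G → Fin 2 → F₁} {w₁ : Fin 2 → F₁} {e₂ : G → Fin 2 → F₂} {w₂ : Fin 2 → F₂}

/-- the structure `Ctx` of `Omega/CloseA` -/
theorem ctx {S : Subgroup G} (h : Mut P₁ P₂ S Q₁ Q₂ V₁ V₂ a) : Ctx S (Q₁ ⊔ Q₂) (Q₁ ⊓ Q₂) Q₁ Q₂ where
  le₁ := h.s₁.QS
  le₂ := h.s₂.QS
  n₁ := h.S_norm₁
  n₂ := h.S_norm₂
  sq₁ := fun _ hu => h.sq₁ hu
  sq₂ := fun _ hu => h.sq₂ hu
  inf := fun _ => mem_inf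
  sup := fun _ => h.mem_S₀
  faith₁ := fun _ hs hc => h.faith' hs hc
  faith₂ := fun _ hs hc => h.faith₂' hs hc

/-- **FF-1, CASE A, with natural modules (`q ≥ 4`), characteristic 2 type at the involutions of `S`**:
`S = Q₁Q₂` is a Sylow 2-subgroup of `L₃(q)` or `Sp₄(q)`, or `q = 4` and `Q₁Q₂` is of type `L₃(4)`. -/
theorem exit [Finite G] [Finite F₁] [Finite F₂] {S : Sylow 2 G} (h : Mut P₁ P₂ S Q₁ Q₂ V₁ V₂ a)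
    (hcen₁ : ∀ g : G, (∀ u ∈ Q₁, g * u = u * g) → g ∈ Q₁) (hcen₂ : ∀ g : G, (∀ u ∈ Q₂, g * u = u * g) → g ∈ Q₂)
    (n₁ : NatTwo P₁ V₁ D₁ e₁) (q₁ : QuadOver V₁ V₂ e₁ w₁) (DV₁ : D₁ ≤ V₁) (Dn₁ : ∀ p ∈ P₁, ∀ d ∈ D₁, p * d * p⁻¹ ∈ D₁)
    (n₂ : NatTwo P₂ V₂ D₂ e₂) (q₂ : QuadOver V₂ V₁ e₂ w₂) (DV₂ : D₂ ≤ V₂) (Dn₂ : ∀ p ∈ P₂, ∀ d ∈ D₂, p * d * p⁻¹ ∈ D₂)
    (hF : 2 < Nat.card F₁) (hct : CTs (S : Subgroup G) (Q₁ ⊔ Q₂)) :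
    (∃ X Y Z : G → F₁, Co3 Q₁ Q₂ (Q₁ ⊓ Q₂) X Y Z ∧ ((S : Subgroup G) = Q₁ ⊔ Q₂ ∨ Nat.card F₁ = 4)) ∨
      ∃ X Y Z Z' : G → F₁, Co4 Q₁ Q₂ (Q₁ ⊓ Q₂) (CC P₁ Q₁ V₂) (CC P₂ Q₂ V₁) X Y Z Z' ∧
        (S : Subgroup G) = Q₁ ⊔ Q₂ := by
  rcases h.close hcen₁ hcen₂ n₁ q₁ DV₁ Dn₁ n₂ q₂ DV₂ Dn₂ hF with ⟨X, Y, Z, L₁, L₂, h1, h2, h3⟩ |
    ⟨X, Y, Z, Z', L₁, L₂, h1, h2, h3⟩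
  · exact Or.inl ⟨X, Y, Z, h1, close3 S h1 h.ctx h2 h3 hct⟩
  · exact Or.inr ⟨X, Y, Z, Z', h1, close4 S h1 h.ctx h2 h3 hct⟩

end Cfsg.Agent.Omega.FFOne.Mut
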