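import Mathlib

/-!
# OMEGA / SQT, node SQ2 = FF-1 (bb #9675), step (5'): the algebra

`μ (x y) + κ (x² y) = g x h y` with `μ, κ, g, h` additive, `g, h` injective, over a finite field of characteristic 2:
`μ = 0` or `κ = 0` (kernel trick), and everything is semilinear.
-/

set_option autoImplicit false

namespace Cfsg.Agent.Omega.FFOne

variable {F : Type*} [Field F] [Finite F]

/-- The kernel trick. -/
theorem kernel_trick (μ κ g h : F →+ F) (hg : Function.Injective g) (hh : Function.Injective h)
    (H : ∀ x y, μ (x * y) + κ (x * x * y) = g x * h y) : μ = 0 ∨ κ = 0 := by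
  have key : ∀ u v : F, u ≠ 0 → v ≠ 0 → μ u + κ v ≠ 0 := by
    intro u v hu hv h0
    have h1 := H (v / u) (u * u / v)
    have e1 : v / u * (u * u / v) = u := by field_simp
    have e2 : v / u * (v / u) * (u * u / v) = v := by field_simp
    rw [e1, e2, h0] at h1
    have hx : v / u ≠ 0 := div_ne_zero hv hu
    have hy : u * u / v ≠ 0 := div_ne_zero (mul_ne_zero hu hu) hv
    have h2 : g (v / u) ≠ 0 := fun h => hx (hg (h.trans (map_zero g).symm))
    have h3 : h (u * u / v) ≠ 0 := fun h' => hy (hh (h'.trans (map_zero h).symm))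
    exact (mul_ne_zero h2 h3) h1.symm
  by_cases hμ : Function.Injective μ
  · right
    have hs : Function.Surjective μ := Finite.surjective_of_injective hμ
    ext v
    by_contra hv
    have hv0 : v ≠ 0 := by rintro rfl; exact hv (by simp)
    obtain ⟨u, hu⟩ := hs (-κ v)
    have hu0 : u ≠ 0 := by
      rintro rfl
      rw [map_zero] at hu
      exact hv (by simpa using (neg_eq_zero.1 hu.symm))
    exact key u v hu0 hv0 (by rw [hu]; ring)
  · have hu : ∃ u : F, u ≠ 0 ∧ μ u = 0 := by
      by_contra hcon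
      push Not at hcon
      exact hμ ((injective_iff_map_eq_zero μ).2 fun a ha => by
        by_contra h0
        exact hcon a h0 ha)
    obtain ⟨u, hu0, hu⟩ := hu
    left
    have hκ : Function.Injective κ := (injective_iff_map_eq_zero κ).2 fun v hv => by
      by_contra h0
      exact key u v hu0 h0 (by rw [hu, hv, add_zero])
    have hs : Function.Surjective κ := Finite.surjective_of_injective hκ
    ext w
    by_contra hw
    have hw0 : w ≠ 0 := by rintro rfl; exact hw (by simp)
    obtain ⟨v, hv⟩ := hs (-μ w)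
    have hv0 : v ≠ 0 := by
      rintro rfl
      rw [map_zero] at hv
      exact hw (by simpa using (neg_eq_zero.1 hv.symm))
    exact key w v hw0 hv0 (by rw [hv]; ring)

/-- A multiplicative (up to a scalar) additive map is semilinear. -/
theorem exists_aut (κ : F →+ F) (h1 : κ 1 ≠ 0) (hm : ∀ u v, κ (u * v) * κ 1 = κ u * κ v) :
    ∃ ρ : F ≃+* F, ∀ u, κ u = κ 1 * ρ u := by
  let f : F →+* F :=
    { toFun := fun u => κ u / κ 1
      map_one' := div_self h1
      map_mul' := fun u v => by
        have := hm u v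
        field_simp
        linear_combination this
      map_zero' := by simp
      map_add' := fun u v => by rw [map_add, add_div] }
  have hb : Function.Bijective f := Finite.injective_iff_bijective.1 f.injective
  refine ⟨RingEquiv.ofBijective f hb, fun u => ?_⟩
  change κ u = κ 1 * (κ u / κ 1)
  field_simp

/-- the case `κ = 0` -/
theorem semi_mul (μ g h : F →+ F) (hg : Function.Injective g) (hh : Function.Injective h)
    (H : ∀ x y, μ (x * y) = g x * h y) :
    ∃ ρ : F ≃+* F, (∀ u, μ u = μ 1 * ρ u) ∧ (∀ u, g u = g 1 * ρ u) ∧ (∀ u, h u = h 1 * ρ u) := by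
  have hg1 : g 1 ≠ 0 := fun h => one_ne_zero (hg (h.trans (map_zero g).symm))
  have hh1 : h 1 ≠ 0 := fun h' => one_ne_zero (hh (h'.trans (map_zero h).symm))
  have e1 : μ 1 = g 1 * h 1 := by simpa using H 1 1
  have e2 : ∀ x, μ x = g x * h 1 := fun x => by simpa using H x 1
  have e3 : ∀ y, μ y = g 1 * h y := fun y => by simpa using H 1 y
  obtain ⟨ρ, hρ⟩ := exists_aut μ (by rw [e1]; exact mul_ne_zero hg1 hh1) fun u v => by
    rw [H, e1, e2 u, e3 v]; ring
  refine ⟨ρ, hρ, fun u => ?_, fun u => ?_⟩
  · apply mul_right_cancel₀ hh1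
    rw [← e2, hρ, e1]; ring
  · apply mul_left_cancel₀ hg1
    rw [← e3, hρ, e1]; ring

/-- the case `μ = 0` -/
theorem semi_sq [CharP F 2] (κ g h : F →+ F) (hg : Function.Injective g) (hh : Function.Injective h)
    (H : ∀ x y, κ (x * x * y) = g x * h y) :
    ∃ ρ : F ≃+* F, (∀ u, κ u = κ 1 * ρ u) ∧ (∀ u, g u = g 1 * (ρ u * ρ u)) ∧ (∀ u, h u = h 1 * ρ u) := by
  have hg1 : g 1 ≠ 0 := fun h => one_ne_zero (hg (h.trans (map_zero g).symm))
  have hh1 : h 1 ≠ 0 := fun h' => one_ne_zero (hh (h'.trans (map_zero h).symm))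
  have e1 : κ 1 = g 1 * h 1 := by simpa using H 1 1
  have e2 : ∀ x, κ (x * x) = g x * h 1 := fun x => by simpa using H x 1
  have e3 : ∀ y, κ y = g 1 * h y := fun y => by simpa using H 1 y
  have hsq : ∀ u : F, ∃ x : F, u = x * x := fun u => by
    have hinj : Function.Injective (fun x : F => x * x) := by
      intro a b hab
      have hab' : a * a = b * b := hab
      have h2 : (2 : F) = 0 := CharTwo.two_eq_zero
      have : (a + b) * (a + b) = 0 := by linear_combination hab' + (a * b + b * b) * h2
      have h3 : a + b = 0 := mul_self_eq_zero.1 this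
      exact CharTwo.add_eq_zero.1 h3
    obtain ⟨x, hx⟩ := Finite.surjective_of_injective hinj u
    exact ⟨x, hx.symm⟩
  obtain ⟨ρ, hρ⟩ := exists_aut κ (by rw [e1]; exact mul_ne_zero hg1 hh1) fun u v => by
    obtain ⟨x, rfl⟩ := hsq u
    rw [H, e1, e2 x, e3 v]; ring
  refine ⟨ρ, hρ, fun u => ?_, fun u => ?_⟩
  · apply mul_right_cancel₀ hh1
    rw [← e2, hρ, e1, map_mul]; ring
  · apply mul_left_cancel₀ hg1
    rw [← e3, hρ, e1]; ring

end Cfsg.Agent.Omega.FFOne
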