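import Mathlib
import Cfsg.Agent.Omega.FFOne.Alg

/-!
# OMEGA / SQT, node SQ2 = FF-1 (bb #9675), step (5'): coordinates

`Base`: `Q₁, Q₂` elementary abelian, normalising each other, `D = Q₁ ∩ Q₂`, `C₁ ∩ C₂ = 1`.
`Co`: the coordinates of one side (natural `SL₂(q)`-module) on `Q₁/D`, `Q₂/D`, `D/C₁` and a torus generator.
-/

set_option autoImplicit false

open Subgroup

namespace Cfsg.Agent.Omega.FFOne

variable {G : Type*} [Group G]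

/-- commutator -/
def cm (u v : G) : G := u * v * u⁻¹ * v⁻¹

structure Base (Q₁ Q₂ D : Subgroup G) : Prop where
  D₁ : D ≤ Q₁
  D₂ : D ≤ Q₂
  sq₁ : ∀ u ∈ Q₁, u * u = 1
  sq₂ : ∀ u ∈ Q₂, u * u = 1
  mem : ∀ u ∈ Q₁, ∀ v ∈ Q₂, cm u v ∈ D

namespace Base

variable {Q₁ Q₂ D : Subgroup G}

theorem inv₁ (b : Base Q₁ Q₂ D) {u : G} (hu : u ∈ Q₁) : u⁻¹ = u := inv_eq_of_mul_eq_one_left (b.sq₁ u hu)

theorem inv₂ (b : Base Q₁ Q₂ D) {u : G} (hu : u ∈ Q₂) : u⁻¹ = u := inv_eq_of_mul_eq_one_left (b.sq₂ u hu)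

theorem comm₁ (b : Base Q₁ Q₂ D) {x y : G} (hx : x ∈ Q₁) (hy : y ∈ Q₁) : x * y = y * x := by
  have h1 := b.inv₁ (mul_mem hx hy)
  rw [mul_inv_rev, b.inv₁ hx, b.inv₁ hy] at h1
  exact h1.symm

theorem comm₂ (b : Base Q₁ Q₂ D) {x y : G} (hx : x ∈ Q₂) (hy : y ∈ Q₂) : x * y = y * x := by
  have h1 := b.inv₂ (mul_mem hx hy)
  rw [mul_inv_rev, b.inv₂ hx, b.inv₂ hy] at h1
  exact h1.symm

theorem cm_inv (b : Base Q₁ Q₂ D) {u v : G} (hu : u ∈ Q₁) (hv : v ∈ Q₂) : cm v u = cm u v := by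
  have h1 : (cm u v)⁻¹ = cm u v := b.inv₁ (b.D₁ (b.mem u hu v hv))
  rw [← h1]
  simp only [cm]; group

theorem symm (b : Base Q₁ Q₂ D) : Base Q₂ Q₁ D where
  D₁ := b.D₂
  D₂ := b.D₁
  sq₁ := b.sq₂
  sq₂ := b.sq₁
  mem := fun u hu v hv => by
    rw [b.cm_inv hv hu]
    exact b.mem v hv u hu

theorem cm_mul_left (b : Base Q₁ Q₂ D) {u u' v : G} (hu : u ∈ Q₁) (hu' : u' ∈ Q₁) (hv : v ∈ Q₂) :
    cm (u * u') v = cm u v * cm u' v := by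
  have h1 := b.comm₁ hu (b.D₁ (b.mem u' hu' v hv))
  have h2 := b.comm₁ (b.D₁ (b.mem u hu v hv)) (b.D₁ (b.mem u' hu' v hv))
  calc cm (u * u') v = u * cm u' v * (v * u⁻¹ * v⁻¹) := by simp only [cm]; group
    _ = cm u' v * u * (v * u⁻¹ * v⁻¹) := by rw [h1]
    _ = cm u' v * cm u v := by simp only [cm]; group
    _ = cm u v * cm u' v := h2.symm

theorem cm_mul_right (b : Base Q₁ Q₂ D) {u v v' : G} (hu : u ∈ Q₁) (hv : v ∈ Q₂) (hv' : v' ∈ Q₂) :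
    cm u (v * v') = cm u v * cm u v' := by
  rw [← b.cm_inv hu (mul_mem hv hv'), b.symm.cm_mul_left hv hv' hu, b.cm_inv hu hv, b.cm_inv hu hv']

theorem cm_D_left (b : Base Q₁ Q₂ D) {u v : G} (hu : u ∈ D) (hv : v ∈ Q₂) : cm u v = 1 := by
  rw [cm, b.comm₂ (b.D₂ hu) hv]; group

theorem cm_D_right (b : Base Q₁ Q₂ D) {u v : G} (hu : u ∈ Q₁) (hv : v ∈ D) : cm u v = 1 := by
  rw [cm, b.comm₁ hu (b.D₁ hv)]; group

end Base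

/-- Coordinates of one side. -/
structure Co {F : Type*} [Field F] (Q₁ Q₂ D C : Subgroup G) (x y z : G → F) (t : G) (ω : F) : Prop where
  CD : C ≤ D
  x_mul : ∀ u ∈ Q₁, ∀ v ∈ Q₁, x (u * v) = x u + x v
  x_surj : ∀ a, ∃ u ∈ Q₁, x u = a
  x_ker : ∀ u ∈ Q₁, x u = 0 ↔ u ∈ D
  y_mul : ∀ u ∈ Q₂, ∀ v ∈ Q₂, y (u * v) = y u + y v
  y_surj : ∀ a, ∃ u ∈ Q₂, y u = a
  y_ker : ∀ u ∈ Q₂, y u = 0 ↔ u ∈ D
  z_mul : ∀ u ∈ D, ∀ v ∈ D, z (u * v) = z u + z v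
  z_surj : ∀ a, ∃ u ∈ D, z u = a
  z_ker : ∀ u ∈ D, z u = 0 ↔ u ∈ C
  com : ∀ u ∈ Q₁, ∀ v ∈ Q₂, z (cm u v) = x u * y v
  tQ₁ : ∀ u ∈ Q₁, t * u * t⁻¹ ∈ Q₁
  tQ₂ : ∀ u ∈ Q₂, t * u * t⁻¹ ∈ Q₂
  tD : ∀ u ∈ D, t * u * t⁻¹ ∈ D
  tx : ∀ u ∈ Q₁, x (t * u * t⁻¹) = ω⁻¹ * x u
  tz : ∀ u ∈ D, z (t * u * t⁻¹) = ω * z u
  tC : ∀ c ∈ C, t * c * t⁻¹ = c
  gen : ∀ a : F, a ≠ 0 → ∃ n : ℕ, a = ω ^ n
  ω0 : ω ≠ 0
  ω1 : ω ≠ 1

section add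

variable {F : Type*} [Field F] {Q : Subgroup G} {f : G → F}

theorem add_one' (hm : ∀ u ∈ Q, ∀ v ∈ Q, f (u * v) = f u + f v) : f 1 = 0 := by
  have := hm 1 (one_mem _) 1 (one_mem _)
  rw [one_mul] at this
  simpa using this

theorem add_inv' (hm : ∀ u ∈ Q, ∀ v ∈ Q, f (u * v) = f u + f v) {u : G} (hu : u ∈ Q) : f u⁻¹ = - f u := by
  have := hm u hu u⁻¹ (inv_mem hu)
  rw [mul_inv_cancel, add_one' hm] at this
  exact (neg_eq_of_add_eq_zero_right this.symm).symm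

end add

theorem cm_conj (t u v : G) : t * cm u v * t⁻¹ = cm (t * u * t⁻¹) (t * v * t⁻¹) := by
  simp only [cm]; group

namespace Co

variable {F : Type*} [Field F] {Q₁ Q₂ D C : Subgroup G} {x y z : G → F} {t : G} {ω : F}

theorem two_eq (co : Co Q₁ Q₂ D C x y z t ω) (b : Base Q₁ Q₂ D) : (2 : F) = 0 := by
  obtain ⟨u, hu, h1⟩ := co.x_surj 1
  have h2 := co.x_mul u hu u hu
  rw [b.sq₁ u hu, add_one' co.x_mul, h1] at h2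
  rw [← one_add_one_eq_two, ← h2]

theorem charTwo (co : Co Q₁ Q₂ D C x y z t ω) (b : Base Q₁ Q₂ D) : CharP F 2 :=
  CharTwo.of_one_ne_zero_of_two_eq_zero one_ne_zero (co.two_eq b)

/-- the torus acts by `ω²` on `Q₂/D` -/
theorem ty (co : Co Q₁ Q₂ D C x y z t ω) (b : Base Q₁ Q₂ D) {v : G} (hv : v ∈ Q₂) :
    y (t * v * t⁻¹) = ω ^ 2 * y v := by
  obtain ⟨u, hu, h1⟩ := co.x_surj 1
  have h2 := co.com _ (co.tQ₁ u hu) _ (co.tQ₂ v hv)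
  rw [← cm_conj, co.tz _ (b.mem u hu v hv), co.com u hu v hv, co.tx u hu, h1] at h2
  have h0 := co.ω0
  field_simp at h2
  rw [← h2]

/-- the section of `z` with values in `[D, t]` -/
theorem exists_s (co : Co Q₁ Q₂ D C x y z t ω) (b : Base Q₁ Q₂ D) :
    ∃ s : F → G, (∀ a, s a ∈ D) ∧ (∀ a, z (s a) = a) ∧ (∀ a a', s (a + a') = s a * s a') ∧
      (∀ a, t * s a * t⁻¹ = s (ω * a)) ∧ (∀ d ∈ D, t * d * t⁻¹ * d⁻¹ = s ((ω - 1) * z d)) := by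
  have hω : ω - 1 ≠ 0 := sub_ne_zero.2 co.ω1
  choose d hdD hdz using co.z_surj
  have hwd : ∀ u ∈ D, ∀ v ∈ D, z u = z v → t * u * t⁻¹ * u⁻¹ = t * v * t⁻¹ * v⁻¹ := by
    intro u hu v hv huv
    have h1 : u * v⁻¹ ∈ C := (co.z_ker _ (mul_mem hu (inv_mem hv))).1 (by
      rw [co.z_mul _ hu _ (inv_mem hv), add_inv' co.z_mul hv, huv, add_neg_cancel])
    have h2 := co.tC _ h1
    have h3 := b.comm₁ (b.D₁ (inv_mem hu)) (b.D₁ (inv_mem hv))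
    have h4 : t * u * t⁻¹ = (u * v⁻¹) * (t * v * t⁻¹) := by
      rw [← h2]; group
    have h5 := b.comm₁ (mul_mem (b.D₁ hu) (b.D₁ (inv_mem hv))) (b.D₁ (co.tD v hv))
    calc t * u * t⁻¹ * u⁻¹ = (u * v⁻¹) * (t * v * t⁻¹) * u⁻¹ := by rw [h4]
      _ = (t * v * t⁻¹) * (u * v⁻¹) * u⁻¹ := by rw [h5]
      _ = (t * v * t⁻¹) * (u * (v⁻¹ * u⁻¹)) := by group
      _ = (t * v * t⁻¹) * (u * (u⁻¹ * v⁻¹)) := by rw [h3]
      _ = t * v * t⁻¹ * v⁻¹ := by group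
  refine ⟨fun a => t * d (a / (ω - 1)) * t⁻¹ * (d (a / (ω - 1)))⁻¹, fun a => mul_mem (co.tD _ (hdD _)) (inv_mem (hdD _)),
    fun a => ?_, fun a a' => ?_, fun a => ?_, fun u hu => ?_⟩
  · rw [co.z_mul _ (co.tD _ (hdD _)) _ (inv_mem (hdD _)), co.tz _ (hdD _), add_inv' co.z_mul (hdD _), hdz]
    field_simp
    ring
  · have h1 := hwd _ (hdD ((a + a') / (ω - 1))) _ (mul_mem (hdD (a / (ω - 1))) (hdD (a' / (ω - 1)))) (by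
      rw [co.z_mul _ (hdD _) _ (hdD _), hdz, hdz, hdz]; ring)
    simp only
    rw [h1]
    set u := d (a / (ω - 1))
    set v := d (a' / (ω - 1))
    have hu : u ∈ D := hdD _
    have hv : v ∈ D := hdD _
    have h2 := b.comm₁ (b.D₁ (mul_mem (co.tD v hv) (inv_mem hv))) (b.D₁ (inv_mem hu))
    calc t * (u * v) * t⁻¹ * (u * v)⁻¹ = (t * u * t⁻¹) * ((t * v * t⁻¹ * v⁻¹) * u⁻¹) := by group
      _ = (t * u * t⁻¹) * (u⁻¹ * (t * v * t⁻¹ * v⁻¹)) := by rw [h2]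
      _ = t * u * t⁻¹ * u⁻¹ * (t * v * t⁻¹ * v⁻¹) := by group
  · simp only
    rw [hwd _ (hdD (ω * a / (ω - 1))) _ (co.tD _ (hdD (a / (ω - 1)))) (by
      rw [co.tz _ (hdD _), hdz, hdz]; ring)]
    group
  · exact hwd _ hu _ (hdD _) (by rw [hdz]; field_simp)

/-- the commutator map in coordinates -/
theorem exists_B (co : Co Q₁ Q₂ D C x y z t ω) (b : Base Q₁ Q₂ D) :
    ∃ B : F → F → G, (∀ p q, B p q ∈ D) ∧ ∀ u ∈ Q₁, ∀ v ∈ Q₂, cm u v = B (x u) (y v) := by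
  choose u huQ hux using co.x_surj
  choose v hvQ hvy using co.y_surj
  refine ⟨fun p q => cm (u p) (v q), fun p q => b.mem _ (huQ _) _ (hvQ _), fun u' hu' v' hv' => ?_⟩
  have h1 : u' * (u (x u'))⁻¹ ∈ D := (co.x_ker _ (mul_mem hu' (inv_mem (huQ _)))).1 (by
    rw [co.x_mul _ hu' _ (inv_mem (huQ _)), add_inv' co.x_mul (huQ _), hux, add_neg_cancel])
  have h2 : v' * (v (y v'))⁻¹ ∈ D := (co.y_ker _ (mul_mem hv' (inv_mem (hvQ _)))).1 (by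
    rw [co.y_mul _ hv' _ (inv_mem (hvQ _)), add_inv' co.y_mul (hvQ _), hvy, add_neg_cancel])
  have e1 : u' = (u' * (u (x u'))⁻¹) * u (x u') := by group
  have e2 : v' = (v' * (v (y v'))⁻¹) * v (y v') := by group
  calc cm u' v' = cm ((u' * (u (x u'))⁻¹) * u (x u')) v' := by rw [← e1]
    _ = cm (u (x u')) v' := by rw [b.cm_mul_left (b.D₁ h1) (huQ _) hv', b.cm_D_left h1 hv', one_mul]
    _ = cm (u (x u')) ((v' * (v (y v'))⁻¹) * v (y v')) := by rw [← e2]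
    _ = cm (u (x u')) (v (y v')) := by
      rw [b.cm_mul_right (huQ _) (b.D₂ h2) (hvQ _), b.cm_D_right (huQ _) h2, one_mul]

end Co

end Cfsg.Agent.Omega.FFOne
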