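import Mathlib
import Cfsg.Agent.Omega.FFOne.Co

/-!
# OMEGA / SQT, node SQ2 = FF-1 (bb #9675), step (5'), K-free: `S₀` is of type `L₃(q)` or `Sp₄(q)`
-/

set_option autoImplicit false

open Subgroup

namespace Cfsg.Agent.Omega.FFOne

variable {G : Type*} [Group G]

/-- `S₀ = Q₁Q₂` is a Sylow 2-subgroup of `L₃(q)` with a torus. -/
structure LThree {F : Type*} [Field F] (Q₁ Q₂ D : Subgroup G) (x y z : G → F) (t₁ t₂ : G) (ω₁ ω₂ : F) :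
    Prop where
  x_mul : ∀ u ∈ Q₁, ∀ v ∈ Q₁, x (u * v) = x u + x v
  x_surj : ∀ a, ∃ u ∈ Q₁, x u = a
  x_ker : ∀ u ∈ Q₁, x u = 0 ↔ u ∈ D
  y_mul : ∀ u ∈ Q₂, ∀ v ∈ Q₂, y (u * v) = y u + y v
  y_surj : ∀ a, ∃ u ∈ Q₂, y u = a
  y_ker : ∀ u ∈ Q₂, y u = 0 ↔ u ∈ D
  z_mul : ∀ u ∈ D, ∀ v ∈ D, z (u * v) = z u + z v
  z_surj : ∀ a, ∃ u ∈ D, z u = a
  z_inj : ∀ u ∈ D, z u = 0 → u = 1
  com : ∀ u ∈ Q₁, ∀ v ∈ Q₂, z (cm u v) = x u * y v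
  t₁x : ∀ u ∈ Q₁, x (t₁ * u * t₁⁻¹) = ω₁⁻¹ * x u
  t₁y : ∀ v ∈ Q₂, y (t₁ * v * t₁⁻¹) = ω₁ ^ 2 * y v
  t₁z : ∀ d ∈ D, z (t₁ * d * t₁⁻¹) = ω₁ * z d
  t₂x : ∀ u ∈ Q₁, x (t₂ * u * t₂⁻¹) = ω₂ ^ 2 * x u
  t₂y : ∀ v ∈ Q₂, y (t₂ * v * t₂⁻¹) = ω₂⁻¹ * y v
  t₂z : ∀ d ∈ D, z (t₂ * d * t₂⁻¹) = ω₂ * z d
  gen₁ : ∀ a : F, a ≠ 0 → ∃ n : ℕ, a = ω₁ ^ n
  gen₂ : ∀ a : F, a ≠ 0 → ∃ n : ℕ, a = ω₂ ^ n

/-- `S₀ = Q₁Q₂` is a Sylow 2-subgroup of `Sp₄(q)` with a torus. -/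
structure SpFour {F : Type*} [Field F] (Q₁ Q₂ D C₁ C₂ : Subgroup G) (x y z z' : G → F) (t₁ t₂ : G)
    (ω₁ ω₂ : F) : Prop where
  x_mul : ∀ u ∈ Q₁, ∀ v ∈ Q₁, x (u * v) = x u + x v
  x_surj : ∀ a, ∃ u ∈ Q₁, x u = a
  x_ker : ∀ u ∈ Q₁, x u = 0 ↔ u ∈ D
  y_mul : ∀ u ∈ Q₂, ∀ v ∈ Q₂, y (u * v) = y u + y v
  y_surj : ∀ a, ∃ u ∈ Q₂, y u = a
  y_ker : ∀ u ∈ Q₂, y u = 0 ↔ u ∈ D
  z_mul : ∀ u ∈ D, ∀ v ∈ D, z (u * v) = z u + z v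
  z'_mul : ∀ u ∈ D, ∀ v ∈ D, z' (u * v) = z' u + z' v
  z_surj : ∀ a a', ∃ u ∈ D, z u = a ∧ z' u = a'
  z_ker : ∀ u ∈ D, z u = 0 ↔ u ∈ C₁
  z'_ker : ∀ u ∈ D, z' u = 0 ↔ u ∈ C₂
  z_inj : ∀ u ∈ D, z u = 0 → z' u = 0 → u = 1
  com : ∀ u ∈ Q₁, ∀ v ∈ Q₂, z (cm u v) = x u * y v
  com' : ∀ u ∈ Q₁, ∀ v ∈ Q₂, z' (cm u v) = x u * x u * y v
  t₁x : ∀ u ∈ Q₁, x (t₁ * u * t₁⁻¹) = ω₁⁻¹ * x u
  t₁y : ∀ v ∈ Q₂, y (t₁ * v * t₁⁻¹) = ω₁ ^ 2 * y v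
  t₁z : ∀ d ∈ D, z (t₁ * d * t₁⁻¹) = ω₁ * z d
  t₁z' : ∀ d ∈ D, z' (t₁ * d * t₁⁻¹) = z' d
  t₂x : ∀ u ∈ Q₁, x (t₂ * u * t₂⁻¹) = ω₂ * x u
  t₂y : ∀ v ∈ Q₂, y (t₂ * v * t₂⁻¹) = ω₂⁻¹ * y v
  t₂z : ∀ d ∈ D, z (t₂ * d * t₂⁻¹) = z d
  t₂z' : ∀ d ∈ D, z' (t₂ * d * t₂⁻¹) = ω₂ * z' d
  gen₁ : ∀ a : F, a ≠ 0 → ∃ n : ℕ, a = ω₁ ^ n
  gen₂ : ∀ a : F, a ≠ 0 → ∃ n : ℕ, a = ω₂ ^ n

/-- The equation `(*)`. -/
structure Star {F : Type*} [Field F] (Q₁ Q₂ D C₁ C₂ : Subgroup G) (x y z x₂ y₂ z₂ : G → F) (t₁ t₂ : G)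
    (ω₁ ω₂ : F) (s : F → G) (B : F → F → G) (μ κ g h : F →+ F) : Prop where
  sD : ∀ a, s a ∈ D
  sz : ∀ a, z (s a) = a
  s_add : ∀ a a', s (a + a') = s a * s a'
  ts : ∀ a, t₁ * s a * t₁⁻¹ = s (ω₁ * a)
  th : ∀ d ∈ D, t₁ * d * t₁⁻¹ * d⁻¹ = s ((ω₁ - 1) * z d)
  BD : ∀ p q, B p q ∈ D
  Bc : ∀ u ∈ Q₁, ∀ v ∈ Q₂, cm u v = B (x u) (y v)
  Bz : ∀ p q, z (B p q) = p * q
  μs : ∀ a, z₂ (s a) = μ a
  κB : ∀ a, z₂ (B 1 a * (s a)⁻¹) = κ a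
  gx : ∀ u ∈ Q₁, x₂ u = g (x u)
  hy : ∀ v ∈ Q₂, y₂ v = h (y v)
  ginj : Function.Injective g
  hinj : Function.Injective h
  Bz₂ : ∀ p q, z₂ (B p q) = g p * h q
  eqn : ∀ p q, μ (p * q) + κ (p * p * q) = g p * h q
  γ : ∀ p q, z₂ (B p q * (s (p * q))⁻¹) = κ (p * p * q)

variable {F : Type*} [Field F] {Q₁ Q₂ D C₁ C₂ : Subgroup G} {x y z x₂ y₂ z₂ : G → F} {t₁ t₂ : G} {ω₁ ω₂ : F}

theorem exists_star (b : Base Q₁ Q₂ D) (co₁ : Co Q₁ Q₂ D C₁ x y z t₁ ω₁) (co₂ : Co Q₂ Q₁ D C₂ y₂ x₂ z₂ t₂ ω₂) :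
    ∃ s B μ κ g h, Star Q₁ Q₂ D C₁ C₂ x y z x₂ y₂ z₂ t₁ t₂ ω₁ ω₂ s B μ κ g h := by
  obtain ⟨s, sD, sz, s_add, ts, th⟩ := co₁.exists_s b
  obtain ⟨B, BD, Bc⟩ := co₁.exists_B b
  have h2 := co₁.two_eq b
  -- `g`
  choose u huQ hux using co₁.x_surj
  choose v hvQ hvy using co₁.y_surj
  have hx : ∀ a ∈ Q₁, ∀ b' ∈ Q₁, x a = x b' → x₂ a = x₂ b' := by
    intro a ha b' hb' hab
    have h1 : a * b'⁻¹ ∈ D := (co₁.x_ker _ (mul_mem ha (inv_mem hb'))).1 (by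
      rw [co₁.x_mul _ ha _ (inv_mem hb'), add_inv' co₁.x_mul hb', hab, add_neg_cancel])
    have h3 := (co₂.y_ker _ (mul_mem ha (inv_mem hb'))).2 h1
    rw [co₂.y_mul _ ha _ (inv_mem hb'), add_inv' co₂.y_mul hb'] at h3
    linear_combination h3
  have hy : ∀ a ∈ Q₂, ∀ b' ∈ Q₂, y a = y b' → y₂ a = y₂ b' := by
    intro a ha b' hb' hab
    have h1 : a * b'⁻¹ ∈ D := (co₁.y_ker _ (mul_mem ha (inv_mem hb'))).1 (by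
      rw [co₁.y_mul _ ha _ (inv_mem hb'), add_inv' co₁.y_mul hb', hab, add_neg_cancel])
    have h3 := (co₂.x_ker _ (mul_mem ha (inv_mem hb'))).2 h1
    rw [co₂.x_mul _ ha _ (inv_mem hb'), add_inv' co₂.x_mul hb'] at h3
    linear_combination h3
  let g : F →+ F := AddMonoidHom.mk' (fun p => x₂ (u p)) fun p q => by
    rw [← co₂.y_mul _ (huQ _) _ (huQ _)]
    exact hx _ (huQ _) _ (mul_mem (huQ _) (huQ _)) (by rw [co₁.x_mul _ (huQ _) _ (huQ _), hux, hux, hux])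
  let h : F →+ F := AddMonoidHom.mk' (fun p => y₂ (v p)) fun p q => by
    rw [← co₂.x_mul _ (hvQ _) _ (hvQ _)]
    exact hy _ (hvQ _) _ (mul_mem (hvQ _) (hvQ _)) (by rw [co₁.y_mul _ (hvQ _) _ (hvQ _), hvy, hvy, hvy])
  let μ : F →+ F := AddMonoidHom.mk' (fun a => z₂ (s a)) fun p q => by
    rw [s_add, co₂.z_mul _ (sD _) _ (sD _)]
  have gx : ∀ u' ∈ Q₁, x₂ u' = g (x u') := fun u' hu' => hx _ hu' _ (huQ _) (hux _).symm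
  have hy' : ∀ v' ∈ Q₂, y₂ v' = h (y v') := fun v' hv' => hy _ hv' _ (hvQ _) (hvy _).symm
  have ginj : Function.Injective g := (injective_iff_map_eq_zero g).2 fun p hp => by
    have h1 : x₂ (u p) = 0 := hp
    rw [co₂.y_ker _ (huQ _), ← co₁.x_ker _ (huQ _), hux] at h1
    exact h1
  have hinj : Function.Injective h := (injective_iff_map_eq_zero h).2 fun p hp => by
    have h1 : y₂ (v p) = 0 := hp
    rw [co₂.x_ker _ (hvQ _), ← co₁.y_ker _ (hvQ _), hvy] at h1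
    exact h1
  have Bpq : ∀ p q, B p q = cm (u p) (v q) := fun p q => by rw [Bc _ (huQ _) _ (hvQ _), hux, hvy]
  have Bz : ∀ p q, z (B p q) = p * q := fun p q => by
    rw [Bpq, co₁.com _ (huQ _) _ (hvQ _), hux, hvy]
  have Bz₂ : ∀ p q, z₂ (B p q) = g p * h q := fun p q => by
    rw [Bpq, ← b.cm_inv (huQ _) (hvQ _), co₂.com _ (hvQ _) _ (huQ _), mul_comm]
    rfl
  have Badd : ∀ p q q', B p (q + q') = B p q * B p q' := fun p q q' => by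
    rw [Bpq p q, Bpq p q', ← b.cm_mul_right (huQ _) (hvQ _) (hvQ _), Bc _ (huQ _) _ (mul_mem (hvQ _) (hvQ _)),
      co₁.y_mul _ (hvQ _) _ (hvQ _), hux, hvy, hvy]
  have hγC : ∀ p q, B p q * (s (p * q))⁻¹ ∈ C₁ := fun p q =>
    (co₁.z_ker _ (mul_mem (BD _ _) (inv_mem (sD _)))).1 (by
      rw [co₁.z_mul _ (BD _ _) _ (inv_mem (sD _)), add_inv' co₁.z_mul (sD _), Bz, sz, add_neg_cancel])
  -- torus invariance
  have hγt : ∀ p q, B (ω₁⁻¹ * p) (ω₁ ^ 2 * q) * (s (ω₁⁻¹ * p * (ω₁ ^ 2 * q)))⁻¹ = B p q * (s (p * q))⁻¹ := by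
    intro p q
    have h1 := co₁.tC _ (hγC p q)
    have h3 : t₁ * B p q * t₁⁻¹ = B (ω₁⁻¹ * p) (ω₁ ^ 2 * q) := by
      rw [Bpq p q, cm_conj, Bc _ (co₁.tQ₁ _ (huQ _)) _ (co₁.tQ₂ _ (hvQ _)), co₁.tx _ (huQ _), co₁.ty b (hvQ _), hux, hvy]
    have h0 := co₁.ω0
    have h4 : ω₁⁻¹ * p * (ω₁ ^ 2 * q) = ω₁ * (p * q) := by field_simp
    rw [← h3, h4, ← ts]
    rw [← h1]
    group
  have hγn : ∀ n : ℕ, ∀ p q, B ((ω₁ ^ n)⁻¹ * p) ((ω₁ ^ n) ^ 2 * q) * (s ((ω₁ ^ n)⁻¹ * p * ((ω₁ ^ n) ^ 2 * q)))⁻¹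
      = B p q * (s (p * q))⁻¹ := by
    intro n
    induction n with
    | zero => intro p q; simp
    | succ n ih =>
      intro p q
      have h1 := hγt ((ω₁ ^ n)⁻¹ * p) ((ω₁ ^ n) ^ 2 * q)
      rw [ih] at h1
      rw [← h1]
      have e1 : (ω₁ ^ (n + 1))⁻¹ * p = ω₁⁻¹ * ((ω₁ ^ n)⁻¹ * p) := by
        rw [pow_succ, mul_inv]; ring
      have e2 : (ω₁ ^ (n + 1)) ^ 2 * q = ω₁ ^ 2 * ((ω₁ ^ n) ^ 2 * q) := by
        rw [pow_succ]; ring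
      rw [e1, e2]
  let κ : F →+ F := AddMonoidHom.mk' (fun a => z₂ (B 1 a * (s a)⁻¹)) fun p q => by
    rw [Badd, s_add, mul_inv_rev]
    rw [← co₂.z_mul _ (mul_mem (BD _ _) (inv_mem (sD _))) _ (mul_mem (BD _ _) (inv_mem (sD _)))]
    congr 1
    have h1 := b.comm₁ (b.D₁ (inv_mem (sD q))) (b.D₁ (inv_mem (sD p)))
    have h3 := b.comm₁ (b.D₁ (BD 1 q)) (b.D₁ (inv_mem (sD p)))
    calc B 1 p * B 1 q * ((s q)⁻¹ * (s p)⁻¹) = B 1 p * (B 1 q * ((s q)⁻¹ * (s p)⁻¹)) := by group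
      _ = B 1 p * (B 1 q * ((s p)⁻¹ * (s q)⁻¹)) := by rw [h1]
      _ = B 1 p * ((B 1 q * (s p)⁻¹) * (s q)⁻¹) := by group
      _ = B 1 p * (((s p)⁻¹ * B 1 q) * (s q)⁻¹) := by rw [h3]
      _ = B 1 p * (s p)⁻¹ * (B 1 q * (s q)⁻¹) := by group
  have γ : ∀ p q, z₂ (B p q * (s (p * q))⁻¹) = κ (p * p * q) := by
    intro p q
    by_cases hp : p = 0
    · subst hp
      have h1 : B 0 q = 1 := by
        have h3 : u 0 ∈ D := (co₁.x_ker _ (huQ _)).1 (hux 0)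
        rw [Bpq, b.cm_D_left h3 (hvQ _)]
      have h3 : s 0 = 1 := by
        have h4 := s_add 0 0
        rw [add_zero] at h4
        exact left_eq_mul.1 h4
      rw [zero_mul, zero_mul, zero_mul, map_zero, h1, h3, inv_one, mul_one]
      exact add_one' co₂.z_mul
    · obtain ⟨n, hn⟩ := co₁.gen p hp
      have h1 := hγn n p q
      rw [← hn] at h1
      have e1 : p⁻¹ * p = 1 := inv_mul_cancel₀ hp
      have e2 : p ^ 2 * q = p * p * q := by ring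
      rw [e1, e2, one_mul] at h1
      rw [← h1]
      rfl
  have eqn : ∀ p q, μ (p * q) + κ (p * p * q) = g p * h q := by
    intro p q
    rw [← γ, ← Bz₂, co₂.z_mul _ (BD _ _) _ (inv_mem (sD _)), add_inv' co₂.z_mul (sD _)]
    change z₂ (s (p * q)) + _ = _
    ring
  exact ⟨s, B, μ, κ, g, h, sD, sz, s_add, ts, th, BD, Bc, Bz, fun a => rfl, fun a => rfl, gx, hy', ginj, hinj, Bz₂,
    eqn, γ⟩

theorem conj_surj [Finite G] {H : Subgroup G} (t : G) (ht : ∀ u ∈ H, t * u * t⁻¹ ∈ H) (u : G) (hu : u ∈ H) :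
    ∃ w ∈ H, t * w * t⁻¹ = u := by
  have h1 : Function.Surjective (fun w : H => (⟨t * w * t⁻¹, ht w w.2⟩ : H)) := by
    apply Finite.surjective_of_injective
    intro a b hab
    have h2 : t * (a : G) * t⁻¹ = t * b * t⁻¹ := congrArg Subtype.val hab
    exact Subtype.ext (by simpa using h2)
  obtain ⟨w, hw⟩ := h1 ⟨u, hu⟩
  exact ⟨w, w.2, congrArg Subtype.val hw⟩

namespace Star

variable {s : F → G} {B : F → F → G} {μ κ g h : F →+ F}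

/-- the case `μ = 0`: `S₀` is of type `Sp₄(q)` -/
theorem spFour [Finite F] (b : Base Q₁ Q₂ D) (co₁ : Co Q₁ Q₂ D C₁ x y z t₁ ω₁) (co₂ : Co Q₂ Q₁ D C₂ y₂ x₂ z₂ t₂ ω₂)
    (hC : C₁ ⊓ C₂ = ⊥) (st : Star Q₁ Q₂ D C₁ C₂ x y z x₂ y₂ z₂ t₁ t₂ ω₁ ω₂ s B μ κ g h) (hμ : μ = 0) :
    ∃ (z' : G → F) (ω : F), SpFour Q₁ Q₂ D C₁ C₂ x y z z' t₁ t₂ ω₁ ω := by
  have := co₁.charTwo b
  obtain ⟨ρ, hκ, hg, hh⟩ := semi_sq κ g h st.ginj st.hinj fun p q => by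
    have h1 := st.eqn p q
    rwa [hμ, AddMonoidHom.zero_apply, zero_add] at h1
  have hg1 : g 1 ≠ 0 := fun h' => one_ne_zero (st.ginj (h'.trans (map_zero g).symm))
  have hh1 : h 1 ≠ 0 := fun h' => one_ne_zero (st.hinj (h'.trans (map_zero h).symm))
  have e1 : κ 1 = g 1 * h 1 := by
    have h1 := st.eqn 1 1
    rwa [hμ, AddMonoidHom.zero_apply, zero_add, one_mul, one_mul] at h1
  have hκ1 : κ 1 ≠ 0 := by rw [e1]; exact mul_ne_zero hg1 hh1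
  have hωρ : ρ.symm ω₂ ≠ 0 := fun h' => co₂.ω0 (by simpa using h')
  have z'z : ∀ d, z₂ d = κ 1 * ρ (ρ.symm ((κ 1)⁻¹ * z₂ d)) := fun d => by
    rw [RingEquiv.apply_symm_apply]; field_simp
  have com' : ∀ u ∈ Q₁, ∀ v ∈ Q₂, ρ.symm ((κ 1)⁻¹ * z₂ (cm u v)) = x u * x u * y v := by
    intro u hu v hv
    rw [st.Bc u hu v hv, st.Bz₂, hg, hh, e1]
    apply ρ.injective
    rw [RingEquiv.apply_symm_apply, map_mul, map_mul]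
    field_simp
  have zinj : ∀ u ∈ D, z u = 0 → ρ.symm ((κ 1)⁻¹ * z₂ u) = 0 → u = 1 := by
    intro u hu h1 h2
    have h3 : z₂ u = 0 := by rw [z'z u, h2, map_zero, mul_zero]
    have h4 : u ∈ C₁ ⊓ C₂ := ⟨(co₁.z_ker u hu).1 h1, (co₂.z_ker u hu).1 h3⟩
    rwa [hC, mem_bot] at h4
  have t₂x : ∀ u ∈ Q₁, x (t₂ * u * t₂⁻¹) = ρ.symm ω₂ * x u := by
    intro u hu
    have h1 := co₂.ty b.symm hu
    rw [st.gx _ (co₂.tQ₂ u hu), st.gx u hu, hg (x (t₂ * u * t₂⁻¹)), hg (x u)] at h1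
    have h2 : ρ (x (t₂ * u * t₂⁻¹)) * ρ (x (t₂ * u * t₂⁻¹)) = (ω₂ * ρ (x u)) * (ω₂ * ρ (x u)) := by
      apply mul_left_cancel₀ hg1
      rw [h1]; ring
    have h3 : ρ (x (t₂ * u * t₂⁻¹)) = ω₂ * ρ (x u) := by
      have h4 : (ρ (x (t₂ * u * t₂⁻¹)) + ω₂ * ρ (x u)) * (ρ (x (t₂ * u * t₂⁻¹)) + ω₂ * ρ (x u)) = 0 := by
        have h5 := co₁.two_eq b
        linear_combination h2 + (ρ (x (t₂ * u * t₂⁻¹)) * (ω₂ * ρ (x u)) + ω₂ * ρ (x u) * (ω₂ * ρ (x u))) * h5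
      exact CharTwo.add_eq_zero.1 (mul_self_eq_zero.1 h4)
    apply ρ.injective
    rw [h3, map_mul, RingEquiv.apply_symm_apply]
  have t₂y : ∀ v ∈ Q₂, y (t₂ * v * t₂⁻¹) = (ρ.symm ω₂)⁻¹ * y v := by
    intro v hv
    have h1 := co₂.tx v hv
    rw [st.hy _ (co₂.tQ₁ v hv), st.hy v hv, hh (y (t₂ * v * t₂⁻¹)), hh (y v)] at h1
    apply ρ.injective
    rw [map_mul, map_inv₀, RingEquiv.apply_symm_apply]
    apply mul_left_cancel₀ hh1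
    rw [h1]; ring
  have hsurj : ∀ a a', ∃ u ∈ D, z u = a ∧ ρ.symm ((κ 1)⁻¹ * z₂ u) = a' := by
    intro a a'
    have hκs : Function.Surjective κ := by
      refine Finite.surjective_of_injective ((injective_iff_map_eq_zero κ).2 fun v hv => ?_)
      rw [hκ] at hv
      simpa using (mul_eq_zero.1 hv).resolve_left hκ1
    obtain ⟨v, hv⟩ := hκs (κ 1 * ρ a')
    refine ⟨s a * (B 1 v * (s v)⁻¹), mul_mem (st.sD _) (mul_mem (st.BD _ _) (inv_mem (st.sD _))), ?_, ?_⟩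
    · rw [co₁.z_mul _ (st.sD _) _ (mul_mem (st.BD _ _) (inv_mem (st.sD _))),
        co₁.z_mul _ (st.BD _ _) _ (inv_mem (st.sD _)), add_inv' co₁.z_mul (st.sD _), st.sz, st.sz, st.Bz]
      ring
    · rw [co₂.z_mul _ (st.sD _) _ (mul_mem (st.BD _ _) (inv_mem (st.sD _))), st.κB, st.μs, hμ,
        AddMonoidHom.zero_apply, zero_add, hv]
      apply ρ.injective
      rw [RingEquiv.apply_symm_apply]; field_simp
  have hBmem : ∀ p q, ∃ u ∈ Q₁, ∃ v ∈ Q₂, x u = p ∧ y v = q ∧ B p q = cm u v := by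
    intro p q
    obtain ⟨u, hu, rfl⟩ := co₁.x_surj p
    obtain ⟨v, hv, rfl⟩ := co₁.y_surj q
    exact ⟨u, hu, v, hv, rfl, rfl, (st.Bc u hu v hv).symm⟩
  have zmul' : ∀ u ∈ D, ∀ v ∈ D, ρ.symm ((κ 1)⁻¹ * z₂ (u * v)) =
      ρ.symm ((κ 1)⁻¹ * z₂ u) + ρ.symm ((κ 1)⁻¹ * z₂ v) := by
    intro u hu v hv
    rw [co₂.z_mul u hu v hv, mul_add, map_add]
  -- the commutators generate
  have hgen : ∀ f : G → F, (∀ u ∈ D, ∀ v ∈ D, f (u * v) = f u + f v) →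
      (∀ u ∈ Q₁, ∀ v ∈ Q₂, f (cm u v) = 0) → ∀ d ∈ D, f d = 0 := by
    intro f hf hf0
    have h1 : ∀ d ∈ D, z d ≠ 0 → ρ.symm ((κ 1)⁻¹ * z₂ d) ≠ 0 → f d = 0 := by
      intro d hd ha ha'
      set a := z d with hza
      set a' := ρ.symm ((κ 1)⁻¹ * z₂ d) with hza'
      obtain ⟨u, hu, v, hv, hxu, hyv, -⟩ := hBmem (a' / a) (a * a / a')
      have h2 : z (d * (cm u v)⁻¹) = 0 := by
        rw [co₁.z_mul _ hd _ (inv_mem (b.mem u hu v hv)), add_inv' co₁.z_mul (b.mem u hu v hv), co₁.com u hu v hv,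
          hxu, hyv, ← hza]
        field_simp
        ring
      have h3 : ρ.symm ((κ 1)⁻¹ * z₂ (d * (cm u v)⁻¹)) = 0 := by
        rw [zmul' _ hd _ (inv_mem (b.mem u hu v hv)), add_inv' co₂.z_mul (b.mem u hu v hv), mul_neg, map_neg,
          com' u hu v hv, hxu, hyv, ← hza']
        field_simp
        ring
      have h4 := zinj _ (mul_mem hd (inv_mem (b.mem u hu v hv))) h2 h3
      rw [mul_inv_eq_one.1 h4]
      exact hf0 u hu v hv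
    intro d hd
    have hone : (1 : F) ≠ 0 := one_ne_zero
    have hω0 := co₁.ω0
    have hω1 : 1 - ω₁ ≠ 0 := sub_ne_zero.2 co₁.ω1.symm
    have h2 : ∀ a a' c c', z d = a + c → ρ.symm ((κ 1)⁻¹ * z₂ d) = a' + c' → a ≠ 0 → a' ≠ 0 → c ≠ 0 → c' ≠ 0 →
        f d = 0 := by
      intro a a' c c' e e' ha ha' hc hc'
      obtain ⟨u, hu, hu1, hu2⟩ := hsurj a a'
      have h3 : z (d * u⁻¹) = c := by
        rw [co₁.z_mul _ hd _ (inv_mem hu), add_inv' co₁.z_mul hu, hu1, e]; ring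
      have h4 : ρ.symm ((κ 1)⁻¹ * z₂ (d * u⁻¹)) = c' := by
        rw [zmul' _ hd _ (inv_mem hu), add_inv' co₂.z_mul hu, mul_neg, map_neg, hu2, e']; ring
      have h5 : d = (d * u⁻¹) * u := by group
      rw [h5, hf _ (mul_mem hd (inv_mem hu)) _ hu, h1 _ (mul_mem hd (inv_mem hu)) (by rw [h3]; exact hc) (by rw [h4]; exact hc'),
        h1 u hu (by rw [hu1]; exact ha) (by rw [hu2]; exact ha'), add_zero]
    by_cases ha : z d = 0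
    · by_cases ha' : ρ.symm ((κ 1)⁻¹ * z₂ d) = 0
      · rw [zinj d hd ha ha']
        exact add_one' hf
      · exact h2 1 (ω₁ * ρ.symm ((κ 1)⁻¹ * z₂ d)) (-1) ((1 - ω₁) * ρ.symm ((κ 1)⁻¹ * z₂ d)) (by rw [ha]; ring) (by ring)
          hone (mul_ne_zero hω0 ha') (neg_ne_zero.2 hone) (mul_ne_zero hω1 ha')
    · by_cases ha' : ρ.symm ((κ 1)⁻¹ * z₂ d) = 0
      · exact h2 (ω₁ * z d) 1 ((1 - ω₁) * z d) (-1) (by ring) (by rw [ha']; ring)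
          (mul_ne_zero hω0 ha) hone (mul_ne_zero hω1 ha) (neg_ne_zero.2 hone)
      · exact h1 d hd ha ha'
  have t₂z : ∀ d ∈ D, z (t₂ * d * t₂⁻¹) = z d := by
    intro d hd
    have h1 := hgen (fun d => z (t₂ * d * t₂⁻¹) - z d) (fun u hu v hv => by
      have e : t₂ * (u * v) * t₂⁻¹ = (t₂ * u * t₂⁻¹) * (t₂ * v * t₂⁻¹) := by group
      rw [e, co₁.z_mul _ (co₂.tD u hu) _ (co₂.tD v hv), co₁.z_mul u hu v hv]; ring) (fun u hu v hv => by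
      rw [cm_conj, co₁.com _ (co₂.tQ₂ u hu) _ (co₂.tQ₁ v hv), t₂x u hu, t₂y v hv, co₁.com u hu v hv]
      field_simp
      ring) d hd
    exact sub_eq_zero.1 h1
  exact ⟨fun d => ρ.symm ((κ 1)⁻¹ * z₂ d), ρ.symm ω₂,
    { x_mul := co₁.x_mul
      x_surj := co₁.x_surj
      x_ker := co₁.x_ker
      y_mul := co₁.y_mul
      y_surj := co₁.y_surj
      y_ker := co₁.y_ker
      z_mul := co₁.z_mul
      z'_mul := zmul'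
      z_surj := hsurj
      z_ker := co₁.z_ker
      z'_ker := fun d hd => by
        rw [← co₂.z_ker d hd]
        constructor
        · intro h'
          rw [z'z d, h', map_zero, mul_zero]
        · intro h'
          simp only [h', mul_zero, map_zero]
      z_inj := zinj
      com := co₁.com
      com' := com'
      t₁x := co₁.tx
      t₁y := fun v hv => co₁.ty b hv
      t₁z := co₁.tz
      t₁z' := fun d hd => by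
        have h1 := congrArg z₂ (st.th d hd)
        rw [co₂.z_mul _ (co₁.tD d hd) _ (inv_mem hd), add_inv' co₂.z_mul hd, st.μs, hμ, AddMonoidHom.zero_apply] at h1
        have h2 : z₂ (t₁ * d * t₁⁻¹) = z₂ d := by linear_combination h1
        simp only [h2]
      t₂x := t₂x
      t₂y := t₂y
      t₂z := t₂z
      t₂z' := fun d hd => by
        rw [co₂.tz d hd, ← map_mul]
        congr 1
        ring
      gen₁ := co₁.gen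
      gen₂ := fun a ha => by
        obtain ⟨n, hn⟩ := co₂.gen (ρ a) (by simpa using ha)
        refine ⟨n, ρ.injective ?_⟩
        rw [map_pow, RingEquiv.apply_symm_apply, hn] }⟩

/-- the case `κ = 0`: `S₀` is of type `L₃(q)` -/
theorem lThree [Finite G] [Finite F] (b : Base Q₁ Q₂ D) (co₁ : Co Q₁ Q₂ D C₁ x y z t₁ ω₁)
    (co₂ : Co Q₂ Q₁ D C₂ y₂ x₂ z₂ t₂ ω₂) (hC : C₁ ⊓ C₂ = ⊥)
    (hR : ∀ r : G, (∀ u ∈ Q₁, r * u * r⁻¹ * u⁻¹ ∈ D) → (∀ v ∈ Q₂, r * v * r⁻¹ * v⁻¹ ∈ D) →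
      (∀ d ∈ D, ∃ u ∈ Q₁, ∃ v ∈ Q₂, r * d * r⁻¹ * d⁻¹ = cm u v) →
      (∀ u ∈ Q₁, ∀ v ∈ Q₂, r * cm u v * r⁻¹ = cm u v) → ∀ d ∈ D, r * d * r⁻¹ = d)
    (st : Star Q₁ Q₂ D C₁ C₂ x y z x₂ y₂ z₂ t₁ t₂ ω₁ ω₂ s B μ κ g h) (hκ : κ = 0) :
    C₁ = ⊥ ∧ C₂ = ⊥ ∧ ∃ ω : F, LThree Q₁ Q₂ D x y z t₁ t₂ ω₁ ω := by
  obtain ⟨ρ, hμ, hg, hh⟩ := semi_mul μ g h st.ginj st.hinj fun p q => by
    have h1 := st.eqn p q
    rwa [hκ, AddMonoidHom.zero_apply, add_zero] at h1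
  have hg1 : g 1 ≠ 0 := fun h' => one_ne_zero (st.ginj (h'.trans (map_zero g).symm))
  have hh1 : h 1 ≠ 0 := fun h' => one_ne_zero (st.hinj (h'.trans (map_zero h).symm))
  have e1 : μ 1 = g 1 * h 1 := by
    have h1 := st.eqn 1 1
    rwa [hκ, AddMonoidHom.zero_apply, add_zero, one_mul] at h1
  have hμ1 : μ 1 ≠ 0 := by rw [e1]; exact mul_ne_zero hg1 hh1
  set ω := ρ.symm ω₂ with hω
  have hρω : ρ ω = ω₂ := by rw [hω, RingEquiv.apply_symm_apply]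
  have hω0 : ω ≠ 0 := fun h' => co₂.ω0 (by rw [← hρω, h', map_zero])
  have hs0 : s 0 = 1 := by
    have h4 := st.s_add 0 0
    rw [add_zero] at h4
    exact left_eq_mul.1 h4
  have μinj : ∀ a, μ a = 0 → a = 0 := fun a ha => by
    rw [hμ] at ha
    simpa using (mul_eq_zero.1 ha).resolve_left hμ1
  have μsurj : ∀ a, ∃ a', μ a' = a := fun a => ⟨ρ.symm ((μ 1)⁻¹ * a), by
    rw [hμ, RingEquiv.apply_symm_apply]; field_simp⟩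
  -- `B p q = s (p q)`
  have hB : ∀ p q, B p q = s (p * q) := by
    intro p q
    have hm : B p q * (s (p * q))⁻¹ ∈ D := mul_mem (st.BD _ _) (inv_mem (st.sD _))
    have h1 : B p q * (s (p * q))⁻¹ ∈ C₁ := (co₁.z_ker _ hm).1 (by
      rw [co₁.z_mul _ (st.BD _ _) _ (inv_mem (st.sD _)), add_inv' co₁.z_mul (st.sD _), st.Bz, st.sz, add_neg_cancel])
    have h2 : B p q * (s (p * q))⁻¹ ∈ C₂ := (co₂.z_ker _ hm).1 (by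
      rw [st.γ, hκ, AddMonoidHom.zero_apply])
    have h3 : B p q * (s (p * q))⁻¹ ∈ C₁ ⊓ C₂ := ⟨h1, h2⟩
    rw [hC, mem_bot] at h3
    exact mul_inv_eq_one.1 h3
  have t₂x : ∀ u ∈ Q₁, x (t₂ * u * t₂⁻¹) = ω ^ 2 * x u := by
    intro u hu
    have h1 := co₂.ty b.symm hu
    rw [st.gx _ (co₂.tQ₂ u hu), st.gx u hu, hg (x (t₂ * u * t₂⁻¹)), hg (x u)] at h1
    apply ρ.injective
    apply mul_left_cancel₀ hg1
    rw [h1, map_mul, map_pow, hρω]; ring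
  have t₂y : ∀ v ∈ Q₂, y (t₂ * v * t₂⁻¹) = ω⁻¹ * y v := by
    intro v hv
    have h1 := co₂.tx v hv
    rw [st.hy _ (co₂.tQ₁ v hv), st.hy v hv, hh (y (t₂ * v * t₂⁻¹)), hh (y v)] at h1
    apply ρ.injective
    apply mul_left_cancel₀ hh1
    rw [h1, map_mul, map_inv₀, hρω]; ring
  have hscm : ∀ a, ∃ u ∈ Q₁, ∃ v ∈ Q₂, x u * y v = a ∧ s a = cm u v := by
    intro a
    obtain ⟨u, hu, hu1⟩ := co₁.x_surj 1
    obtain ⟨v, hv, rfl⟩ := co₁.y_surj a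
    exact ⟨u, hu, v, hv, by rw [hu1, one_mul], by rw [st.Bc u hu v hv, hB, hu1, one_mul]⟩
  have cms : ∀ u ∈ Q₁, ∀ v ∈ Q₂, cm u v = s (x u * y v) := fun u hu v hv => by
    rw [st.Bc u hu v hv, hB]
  have t₂s : ∀ a, t₂ * s a * t₂⁻¹ = s (ω * a) := by
    intro a
    obtain ⟨u, hu, v, hv, rfl, e⟩ := hscm a
    rw [e, cm_conj, cms _ (co₂.tQ₂ u hu) _ (co₂.tQ₁ v hv), t₂x u hu, t₂y v hv]
    congr 1
    field_simp
  -- `t₂` is trivial on `D / D₁`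
  have th₂ : ∀ d ∈ D, ∃ a, t₂ * d * t₂⁻¹ * d⁻¹ = s a := by
    intro d hd
    obtain ⟨a, ha⟩ := μsurj (z₂ d)
    have h1 : d * (s a)⁻¹ ∈ C₂ := (co₂.z_ker _ (mul_mem hd (inv_mem (st.sD _)))).1 (by
      rw [co₂.z_mul _ hd _ (inv_mem (st.sD _)), add_inv' co₂.z_mul (st.sD _), st.μs, ha, add_neg_cancel])
    have h2 := co₂.tC _ h1
    refine ⟨ω * a + a, ?_⟩
    rw [st.s_add, ← t₂s]
    have h3 : t₂ * d * t₂⁻¹ = (d * (s a)⁻¹) * (t₂ * s a * t₂⁻¹) := by rw [← h2]; group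
    rw [h3]
    have h4 := b.comm₁ (b.D₁ hd) (b.D₁ (mul_mem (inv_mem (st.sD a)) (co₂.tD _ (st.sD a))))
    have h5 := b.comm₁ (b.D₁ (inv_mem (st.sD a))) (b.D₁ (co₂.tD _ (st.sD a)))
    calc d * (s a)⁻¹ * (t₂ * s a * t₂⁻¹) * d⁻¹ = d * ((s a)⁻¹ * (t₂ * s a * t₂⁻¹)) * d⁻¹ := by group
      _ = ((s a)⁻¹ * (t₂ * s a * t₂⁻¹)) := by rw [h4]; group
      _ = (t₂ * s a * t₂⁻¹) * (s a)⁻¹ := h5
      _ = t₂ * s a * t₂⁻¹ * s a := by rw [b.inv₁ (b.D₁ (st.sD a))]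
  -- the commutator `r`
  set r : G := t₁ * t₂ * t₁⁻¹ * t₂⁻¹ with hr
  have hrw : ∀ w : G, r * (t₂ * (t₁ * w * t₁⁻¹) * t₂⁻¹) * r⁻¹ = t₁ * (t₂ * w * t₂⁻¹) * t₁⁻¹ := by
    intro w; rw [hr]; group
  have key : ∀ w ∈ D, t₁ * (t₂ * w * t₂⁻¹) * t₁⁻¹ = t₂ * (t₁ * w * t₁⁻¹) * t₂⁻¹ := by
    intro w hw
    rw [← hrw]
    refine hR r ?_ ?_ ?_ ?_ _ (co₂.tD _ (co₁.tD _ hw))
    · intro u hu
      obtain ⟨u₁, hu₁, rfl⟩ := conj_surj t₂ co₂.tQ₂ u hu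
      obtain ⟨w, hw, rfl⟩ := conj_surj t₁ co₁.tQ₁ u₁ hu₁
      rw [hrw]
      refine (co₁.x_ker _ (mul_mem (co₁.tQ₁ _ (co₂.tQ₂ _ hw)) (inv_mem (co₂.tQ₂ _ (co₁.tQ₁ _ hw))))).1 ?_
      rw [co₁.x_mul _ (co₁.tQ₁ _ (co₂.tQ₂ _ hw)) _ (inv_mem (co₂.tQ₂ _ (co₁.tQ₁ _ hw))),
        add_inv' co₁.x_mul (co₂.tQ₂ _ (co₁.tQ₁ _ hw)), co₁.tx _ (co₂.tQ₂ _ hw), t₂x w hw, t₂x _ (co₁.tQ₁ _ hw),
        co₁.tx w hw]
      ring
    · intro u hu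
      obtain ⟨u₁, hu₁, rfl⟩ := conj_surj t₂ co₂.tQ₁ u hu
      obtain ⟨w, hw, rfl⟩ := conj_surj t₁ co₁.tQ₂ u₁ hu₁
      rw [hrw]
      refine (co₁.y_ker _ (mul_mem (co₁.tQ₂ _ (co₂.tQ₁ _ hw)) (inv_mem (co₂.tQ₁ _ (co₁.tQ₂ _ hw))))).1 ?_
      rw [co₁.y_mul _ (co₁.tQ₂ _ (co₂.tQ₁ _ hw)) _ (inv_mem (co₂.tQ₁ _ (co₁.tQ₂ _ hw))),
        add_inv' co₁.y_mul (co₂.tQ₁ _ (co₁.tQ₂ _ hw)), co₁.ty b (co₂.tQ₁ _ hw), t₂y w hw, t₂y _ (co₁.tQ₂ _ hw),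
        co₁.ty b hw]
      ring
    · intro d hd
      obtain ⟨d₁, hd₁, rfl⟩ := conj_surj t₂ co₂.tD d hd
      obtain ⟨w, hw, rfl⟩ := conj_surj t₁ co₁.tD d₁ hd₁
      rw [hrw]
      obtain ⟨a, ha⟩ := th₂ w hw
      have ha' : t₂ * w * t₂⁻¹ = s a * w := mul_inv_eq_iff_eq_mul.1 ha
      have hc' : t₁ * w * t₁⁻¹ = s ((ω₁ - 1) * z w) * w := mul_inv_eq_iff_eq_mul.1 (st.th w hw)
      set c := (ω₁ - 1) * z w
      have e2 : t₁ * (t₂ * w * t₂⁻¹) * t₁⁻¹ = s (ω₁ * a) * s c * w := by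
        rw [ha', mul_assoc (s (ω₁ * a)), ← hc', ← st.ts]; group
      have e3 : t₂ * (t₁ * w * t₁⁻¹) * t₂⁻¹ = s (ω * c) * s a * w := by
        rw [hc', mul_assoc (s (ω * c)), ← ha', ← t₂s]; group
      have e4 : t₁ * (t₂ * w * t₂⁻¹) * t₁⁻¹ * (t₂ * (t₁ * w * t₁⁻¹) * t₂⁻¹)⁻¹ = s (ω₁ * a + c + (ω * c + a)) := by
        rw [e2, e3, st.s_add, st.s_add, st.s_add (ω * c) a]
        have h5 : (s (ω * c) * s a)⁻¹ = s (ω * c) * s a := b.inv₁ (b.D₁ (mul_mem (st.sD _) (st.sD _)))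
        rw [mul_inv_rev, h5]; group
      obtain ⟨u, hu, v, hv, -, e5⟩ := hscm (ω₁ * a + c + (ω * c + a))
      exact ⟨u, hu, v, hv, by rw [e4, e5]⟩
    · intro u hu v hv
      rw [cms u hu v hv]
      have h0 := co₁.ω0
      have e5 : s (x u * y v) = t₂ * (t₁ * s (ω₁⁻¹ * (ω⁻¹ * (x u * y v))) * t₁⁻¹) * t₂⁻¹ := by
        rw [st.ts, t₂s]
        congr 1
        field_simp
      rw [e5, hrw, ← e5, t₂s, st.ts]
      congr 1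
      field_simp
  have hC₂ : C₂ = ⊥ := by
    rw [eq_bot_iff]
    intro c hc
    have hcD := co₂.CD hc
    have h1 := key c hcD
    rw [co₂.tC c hc] at h1
    have h2 : z₂ (t₁ * c * t₁⁻¹) = ω₂ * z₂ (t₁ * c * t₁⁻¹) := by
      rw [← co₂.tz _ (co₁.tD c hcD), ← h1]
    have h3 : z₂ (t₁ * c * t₁⁻¹) = 0 := by
      have h4 : (ω₂ - 1) * z₂ (t₁ * c * t₁⁻¹) = 0 := by linear_combination -h2
      exact (mul_eq_zero.1 h4).resolve_left (sub_ne_zero.2 co₂.ω1)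
    have h5 := congrArg z₂ (st.th c hcD)
    rw [co₂.z_mul _ (co₁.tD c hcD) _ (inv_mem hcD), add_inv' co₂.z_mul hcD, h3, (co₂.z_ker c hcD).2 hc, st.μs] at h5
    have h6 := μinj _ (by rw [← h5]; ring)
    have h7 : z c = 0 := (mul_eq_zero.1 h6).resolve_left (sub_ne_zero.2 co₁.ω1)
    have h8 : c ∈ C₁ ⊓ C₂ := ⟨(co₁.z_ker c hcD).1 h7, hc⟩
    rwa [hC] at h8
  have hDs : ∀ d ∈ D, ∃ a, d = s a := by
    intro d hd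
    obtain ⟨a, ha⟩ := μsurj (z₂ d)
    have h1 : d * (s a)⁻¹ ∈ C₂ := (co₂.z_ker _ (mul_mem hd (inv_mem (st.sD _)))).1 (by
      rw [co₂.z_mul _ hd _ (inv_mem (st.sD _)), add_inv' co₂.z_mul (st.sD _), st.μs, ha, add_neg_cancel])
    rw [hC₂, mem_bot] at h1
    exact ⟨a, mul_inv_eq_one.1 h1⟩
  have zinj : ∀ d ∈ D, z d = 0 → d = 1 := by
    intro d hd h0
    obtain ⟨a, rfl⟩ := hDs d hd
    rw [st.sz] at h0
    rw [h0, hs0]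
  have hC₁ : C₁ = ⊥ := by
    rw [eq_bot_iff]
    intro c hc
    exact zinj c (co₁.CD hc) ((co₁.z_ker c (co₁.CD hc)).2 hc)
  exact ⟨hC₁, hC₂, ω,
    { x_mul := co₁.x_mul
      x_surj := co₁.x_surj
      x_ker := co₁.x_ker
      y_mul := co₁.y_mul
      y_surj := co₁.y_surj
      y_ker := co₁.y_ker
      z_mul := co₁.z_mul
      z_surj := co₁.z_surj
      z_inj := zinj
      com := co₁.com
      t₁x := co₁.tx
      t₁y := fun v hv => co₁.ty b hv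
      t₁z := co₁.tz
      t₂x := t₂x
      t₂y := t₂y
      t₂z := fun d hd => by
        obtain ⟨a, rfl⟩ := hDs d hd
        rw [t₂s, st.sz, st.sz]
      gen₁ := co₁.gen
      gen₂ := fun a ha => by
        obtain ⟨n, hn⟩ := co₂.gen (ρ a) (by simpa using ha)
        refine ⟨n, ρ.injective ?_⟩
        rw [map_pow, hρω, hn] }⟩

end Star

/-- **Step (5')** of #9675, K-free. -/
theorem five [Finite G] [Finite F] (b : Base Q₁ Q₂ D) (co₁ : Co Q₁ Q₂ D C₁ x y z t₁ ω₁)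
    (co₂ : Co Q₂ Q₁ D C₂ y₂ x₂ z₂ t₂ ω₂) (hC : C₁ ⊓ C₂ = ⊥)
    (hR : ∀ r : G, (∀ u ∈ Q₁, r * u * r⁻¹ * u⁻¹ ∈ D) → (∀ v ∈ Q₂, r * v * r⁻¹ * v⁻¹ ∈ D) →
      (∀ d ∈ D, ∃ u ∈ Q₁, ∃ v ∈ Q₂, r * d * r⁻¹ * d⁻¹ = cm u v) →
      (∀ u ∈ Q₁, ∀ v ∈ Q₂, r * cm u v * r⁻¹ = cm u v) → ∀ d ∈ D, r * d * r⁻¹ = d) :
    (C₁ = ⊥ ∧ C₂ = ⊥ ∧ ∃ ω : F, LThree Q₁ Q₂ D x y z t₁ t₂ ω₁ ω) ∨
      ∃ (z' : G → F) (ω : F), SpFour Q₁ Q₂ D C₁ C₂ x y z z' t₁ t₂ ω₁ ω := by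
  obtain ⟨s, B, μ, κ, g, h, st⟩ := exists_star b co₁ co₂
  rcases kernel_trick μ κ g h st.ginj st.hinj st.eqn with h1 | h1
  · exact Or.inr (st.spFour b co₁ co₂ hC h1)
  · exact Or.inl (st.lThree b co₁ co₂ hC hR h1)

end Cfsg.Agent.Omega.FFOne
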