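import Mathlib

/-!
# OMEGA / SQT, node SQ2 = FF-1: pairs with `b = 1`, CASE A  (helper121, bb #9675), steps (1)-(3)

`P₁, P₂` with common Sylow 2-subgroup `S`, `Qᵢ = O₂(Pᵢ)`, `Vᵢ ≤ Ω₁ Z(Qᵢ)` normal in `Pᵢ` with `C_S(Vᵢ) = Qᵢ`, each
`Vⱼ` a (natural) offender on `Vᵢ`, no nontrivial subgroup of `S` normal in both.  Then `Q₁, Q₂` are elementary abelian,
`Qᵢ = Vᵢ (Q₁ ∩ Q₂) = Vᵢ Cᵢ`, `|Qᵢ : Q₁ ∩ Q₂| = |Q₁ ∩ Q₂ : Cᵢ| = a`, `C₁ ∩ C₂ = 1`.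
-/

set_option autoImplicit false

open Subgroup

namespace Cfsg.Agent.Omega.FFOne

variable {G : Type*} [Group G]

/-- One side of the pair. -/
structure Side (P S Q V : Subgroup G) : Prop where
  SP : S ≤ P
  QS : Q ≤ S
  VQ : V ≤ Q
  Qn : ∀ g ∈ P, ∀ x ∈ Q, g * x * g⁻¹ ∈ Q
  Vn : ∀ g ∈ P, ∀ x ∈ V, g * x * g⁻¹ ∈ V
  sq : ∀ v ∈ V, v * v = 1
  cen : ∀ x ∈ S, (∀ v ∈ V, x * v = v * x) → x ∈ Q
  com : ∀ x ∈ Q, ∀ v ∈ V, x * v = v * x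

/-- `A` is an offender on `V` (output of the FF-theorem). -/
structure Off (P S Q V A : Subgroup G) (a : ℕ) : Prop where
  /-- `|V : C_V(A)| = a` -/
  idx : (V ⊓ centralizer (A : Set G)).relIndex V = a
  /-- `C_S(V / C_V(A)) ≤ A Q` -/
  act : ∀ x ∈ S, (∀ v ∈ V, x * v * x⁻¹ * v⁻¹ ∈ centralizer (A : Set G)) → ∃ y ∈ A, ∃ q ∈ Q, x = y * q
  /-- two conjugates of `A` generate `⟨A^P⟩` modulo `Q` -/
  two : ∃ g ∈ P, ∀ K : Subgroup G, A ≤ K → (∀ x ∈ A, g * x * g⁻¹ ∈ K) → Q ≤ K →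
    ∀ h ∈ P, ∀ x ∈ A, h * x * h⁻¹ ∈ K
  /-- `|V : C_V(⟨A^P⟩)| = a²` -/
  full : a * a ≤ (V ⊓ ⨅ h : P, centralizer ((A.map (MulAut.conj (h : G)).toMonoidHom : Subgroup G) : Set G)).relIndex V
  /-- `P = ⟨A^P⟩ S` -/
  gen : ∀ K : Subgroup G, S ≤ K → (∀ g ∈ P, ∀ x ∈ A, g * x * g⁻¹ ∈ K) → P ≤ K

/-- The situation after step (1). -/
structure Mut (P₁ P₂ S Q₁ Q₂ V₁ V₂ : Subgroup G) (a : ℕ) : Prop where
  s₁ : Side P₁ S Q₁ V₁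
  s₂ : Side P₂ S Q₂ V₂
  o₁ : Off P₁ S Q₁ V₁ V₂ a
  o₂ : Off P₂ S Q₂ V₂ V₁ a
  core : ∀ X : Subgroup G, X ≤ S → (∀ g ∈ P₁, ∀ x ∈ X, g * x * g⁻¹ ∈ X) → (∀ g ∈ P₂, ∀ x ∈ X, g * x * g⁻¹ ∈ X) →
    X = ⊥

/-- The subgroup `C_Q(⟨A^P⟩)`. -/
def CC (P Q A : Subgroup G) : Subgroup G :=
  Q ⊓ ⨅ h : P, centralizer ((A.map (MulAut.conj (h : G)).toMonoidHom : Subgroup G) : Set G)

theorem mem_CC {P Q A : Subgroup G} {x : G} :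
    x ∈ CC P Q A ↔ x ∈ Q ∧ ∀ h ∈ P, ∀ y ∈ A, x * (h * y * h⁻¹) = h * y * h⁻¹ * x := by
  rw [CC, mem_inf, mem_iInf]
  refine and_congr_right fun _ => ⟨fun hx h hh y hy => ?_, fun hx h => ?_⟩
  · exact (mem_centralizer_iff.1 (hx ⟨h, hh⟩) _ ⟨y, hy, rfl⟩).symm
  · rw [mem_centralizer_iff]
    rintro _ ⟨y, hy, rfl⟩
    exact (hx h h.2 y hy).symm

theorem mem_inf_cen {V A : Subgroup G} {x : G} :
    x ∈ V ⊓ centralizer (A : Set G) ↔ x ∈ V ∧ ∀ y ∈ A, x * y = y * x := by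
  rw [mem_inf, mem_centralizer_iff]
  exact and_congr_right fun _ => ⟨fun h y hy => (h y hy).symm, fun h y hy => (h y hy).symm⟩

/-- `Q = V D` implies `|Q : D| = |V : V ∩ D|` -/
theorem relIndex_of_dec {V Q D : Subgroup G} (hVQ : V ≤ Q) (hdec : ∀ x ∈ Q, ∃ v ∈ V, ∃ y ∈ D, x = v * y) :
    D.relIndex Q = D.relIndex V := by
  have e := quotientSubgroupOfEmbeddingOfLE D hVQ
  have h1 : Function.Surjective (quotientSubgroupOfEmbeddingOfLE D hVQ) := by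
    intro q
    obtain ⟨x, rfl⟩ := QuotientGroup.mk_surjective q
    obtain ⟨v, hv, y, hy, e⟩ := hdec x x.2
    refine ⟨QuotientGroup.mk ⟨v, hv⟩, ?_⟩
    rw [quotientSubgroupOfEmbeddingOfLE_apply_mk]
    rw [QuotientGroup.eq]
    rw [mem_subgroupOf]
    have e2 : (((inclusion hVQ ⟨v, hv⟩)⁻¹ * x : Q) : G) = y := by
      push_cast
      rw [e, coe_inclusion]
      group
    rw [e2]
    exact hy
  exact (Nat.card_congr (Equiv.ofBijective _ ⟨(quotientSubgroupOfEmbeddingOfLE D hVQ).injective, h1⟩)).symm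

/-- the converse -/
theorem dec_of_relIndex [Finite G] {V Q D : Subgroup G} (hVQ : V ≤ Q) (h : D.relIndex Q ≤ D.relIndex V) :
    ∀ x ∈ Q, ∃ v ∈ V, ∃ y ∈ D, x = v * y := by
  have h1 : Function.Bijective (quotientSubgroupOfEmbeddingOfLE D hVQ) := by
    have h2 := (quotientSubgroupOfEmbeddingOfLE D hVQ).injective
    apply (Nat.bijective_iff_injective_and_card _).2
    exact ⟨h2, le_antisymm (Nat.card_le_card_of_injective _ h2) h⟩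
  intro x hx
  obtain ⟨q, hq⟩ := h1.2 (QuotientGroup.mk ⟨x, hx⟩)
  obtain ⟨v, rfl⟩ := QuotientGroup.mk_surjective q
  rw [quotientSubgroupOfEmbeddingOfLE_apply_mk, QuotientGroup.eq, mem_subgroupOf] at hq
  refine ⟨v, v.2, (v : G)⁻¹ * x, ?_, by group⟩
  exact hq

theorem relIndex_ne [Finite G] (H K : Subgroup G) : H.relIndex K ≠ 0 := index_ne_zero_of_finite

theorem card_of_relIndex {H K : Subgroup G} (h : H ≤ K) : H.relIndex K * Nat.card H = Nat.card K := by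
  rw [← relIndex_bot_left, ← relIndex_bot_left, mul_comm]
  exact relIndex_mul_relIndex ⊥ H K bot_le h

namespace Mut

variable {P₁ P₂ S Q₁ Q₂ V₁ V₂ : Subgroup G} {a : ℕ}

theorem symm (h : Mut P₁ P₂ S Q₁ Q₂ V₁ V₂ a) : Mut P₂ P₁ S Q₂ Q₁ V₂ V₁ a :=
  ⟨h.s₂, h.s₁, h.o₂, h.o₁, fun X hX h1 h2 => h.core X hX h2 h1⟩

/-- (2): `Q₂ = V₂ (Q₁ ∩ Q₂)` -/
theorem dec₂ (h : Mut P₁ P₂ S Q₁ Q₂ V₁ V₂ a) {x : G} (hx : x ∈ Q₂) :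
    ∃ v ∈ V₂, ∃ y ∈ Q₁ ⊓ Q₂, x = v * y := by
  have hxS : x ∈ S := h.s₂.QS hx
  obtain ⟨v, hv, q, hq, rfl⟩ := h.o₁.act x hxS fun w hw => by
    -- `[x, w] ∈ Q₂` centralises `V₂`
    have h1 : x * w * x⁻¹ * w⁻¹ ∈ Q₂ := by
      have hwS : w ∈ S := h.s₁.QS (h.s₁.VQ hw)
      have h2 := h.s₂.Qn w (h.s₂.SP hwS) x⁻¹ (inv_mem hx)
      have h3 := mul_mem hx h2
      have e : x * (w * x⁻¹ * w⁻¹) = x * w * x⁻¹ * w⁻¹ := by group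
      rwa [e] at h3
    rw [mem_centralizer_iff]
    intro u hu
    exact (h.s₂.com _ h1 u hu).symm
  refine ⟨v, hv, q, ⟨hq, ?_⟩, rfl⟩
  have h1 := mul_mem (inv_mem (h.s₂.VQ hv)) hx
  rwa [inv_mul_cancel_left] at h1

theorem dec₁ (h : Mut P₁ P₂ S Q₁ Q₂ V₁ V₂ a) {x : G} (hx : x ∈ Q₁) :
    ∃ v ∈ V₁, ∃ y ∈ Q₁ ⊓ Q₂, x = v * y := by
  obtain ⟨v, hv, y, hy, e⟩ := h.symm.dec₂ hx
  exact ⟨v, hv, y, ⟨hy.2, hy.1⟩, e⟩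

/-- the square of an element of `Q₁` is the square of an element of `Q₁ ∩ Q₂` -/
theorem sq_eq (h : Mut P₁ P₂ S Q₁ Q₂ V₁ V₂ a) {x : G} (hx : x ∈ Q₁) : ∃ y ∈ Q₁ ⊓ Q₂, x * x = y * y := by
  obtain ⟨v, hv, y, hy, rfl⟩ := h.dec₁ hx
  refine ⟨y, hy, ?_⟩
  have h1 := h.s₁.com y hy.1 v hv
  calc v * y * (v * y) = v * (y * v) * y := by group
    _ = (v * v) * (y * y) := by rw [h1]; group
    _ = y * y := by rw [h.s₁.sq v hv, one_mul]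

/-- (3): `Q₁` has exponent two -/
theorem sq₁ (h : Mut P₁ P₂ S Q₁ Q₂ V₁ V₂ a) {x : G} (hx : x ∈ Q₁) : x * x = 1 := by
  set X : Subgroup G := closure {z : G | ∃ y ∈ Q₁ ⊓ Q₂, z = y * y} with hX
  have hXS : X ≤ S := by
    rw [hX, closure_le]
    rintro _ ⟨y, hy, rfl⟩
    exact mul_mem (h.s₁.QS hy.1) (h.s₁.QS hy.1)
  have key : ∀ g : G, (∀ y ∈ Q₁ ⊓ Q₂, g * (y * y) * g⁻¹ ∈ X) → ∀ x ∈ X, g * x * g⁻¹ ∈ X := by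
    intro g hg x hx
    have h1 : X ≤ X.comap (MulAut.conj g).toMonoidHom := by
      conv_lhs => rw [hX]
      rw [closure_le]
      rintro _ ⟨y, hy, rfl⟩
      exact hg y hy
    exact h1 hx
  have hbot := h.core X hXS
    (fun g hg x hx => key g (fun y hy => by
      have h1 := h.s₁.Qn g hg y hy.1
      obtain ⟨z, hz, e⟩ := h.sq_eq h1
      have e2 : g * (y * y) * g⁻¹ = z * z := by rw [← e]; group
      rw [e2]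
      exact subset_closure ⟨z, hz, rfl⟩) x hx)
    (fun g hg x hx => key g (fun y hy => by
      have h1 := h.s₂.Qn g hg y hy.2
      obtain ⟨z, hz, e⟩ := h.symm.sq_eq h1
      have e2 : g * (y * y) * g⁻¹ = z * z := by rw [← e]; group
      rw [e2]
      exact subset_closure ⟨z, ⟨hz.2, hz.1⟩, rfl⟩) x hx)
  obtain ⟨y, hy, e⟩ := h.sq_eq hx
  rw [e]
  have h1 : y * y ∈ X := subset_closure ⟨y, hy, rfl⟩
  rwa [hbot, mem_bot] at h1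

theorem sq₂ (h : Mut P₁ P₂ S Q₁ Q₂ V₁ V₂ a) {x : G} (hx : x ∈ Q₂) : x * x = 1 := h.symm.sq₁ hx

theorem inv₁ (h : Mut P₁ P₂ S Q₁ Q₂ V₁ V₂ a) {x : G} (hx : x ∈ Q₁) : x⁻¹ = x :=
  inv_eq_of_mul_eq_one_left (h.sq₁ hx)

theorem comm₁ (h : Mut P₁ P₂ S Q₁ Q₂ V₁ V₂ a) {x y : G} (hx : x ∈ Q₁) (hy : y ∈ Q₁) : x * y = y * x := by
  have h1 := h.inv₁ (mul_mem hx hy)
  rw [mul_inv_rev, h.inv₁ hx, h.inv₁ hy] at h1
  exact h1.symm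

theorem comm₂ (h : Mut P₁ P₂ S Q₁ Q₂ V₁ V₂ a) {x y : G} (hx : x ∈ Q₂) (hy : y ∈ Q₂) : x * y = y * x :=
  h.symm.comm₁ hx hy

/-- an element of `Q₁` centralising `V₂` is in `Q₁ ∩ Q₂` -/
theorem mem_D (h : Mut P₁ P₂ S Q₁ Q₂ V₁ V₂ a) {x : G} (hx : x ∈ Q₁) (hc : ∀ v ∈ V₂, x * v = v * x) :
    x ∈ Q₁ ⊓ Q₂ := ⟨hx, h.s₂.cen x (h.s₁.QS hx) hc⟩

theorem cen_eq (h : Mut P₁ P₂ S Q₁ Q₂ V₁ V₂ a) : V₁ ⊓ centralizer (V₂ : Set G) = V₁ ⊓ (Q₁ ⊓ Q₂) := by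
  ext x
  rw [mem_inf_cen, mem_inf]
  constructor
  · rintro ⟨h1, h2⟩
    exact ⟨h1, h.mem_D (h.s₁.VQ h1) h2⟩
  · rintro ⟨h1, h2⟩
    exact ⟨h1, fun y hy => h.comm₂ h2.2 (h.s₂.VQ hy)⟩

/-- `|Q₁ : Q₁ ∩ Q₂| = a` -/
theorem relIndex_D (h : Mut P₁ P₂ S Q₁ Q₂ V₁ V₂ a) : (Q₁ ⊓ Q₂).relIndex Q₁ = a := by
  rw [relIndex_of_dec h.s₁.VQ fun x hx => h.dec₁ hx, ← h.o₁.idx, h.cen_eq, inf_comm V₁, inf_relIndex_right]

/-- `Cᵢ = C_{Qᵢ}(⟨Vⱼ^{Pᵢ}⟩)` lies in `Q₁ ∩ Q₂` -/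
theorem C_le (h : Mut P₁ P₂ S Q₁ Q₂ V₁ V₂ a) : CC P₁ Q₁ V₂ ≤ Q₁ ⊓ Q₂ := by
  intro x hx
  rw [mem_CC] at hx
  exact h.mem_D hx.1 fun v hv => by simpa using hx.2 1 (one_mem _) v hv

theorem C_norm (h : Mut P₁ P₂ S Q₁ Q₂ V₁ V₂ a) : ∀ g ∈ P₁, ∀ x ∈ CC P₁ Q₁ V₂, g * x * g⁻¹ ∈ CC P₁ Q₁ V₂ := by
  intro g hg x hx
  rw [mem_CC] at hx ⊢
  refine ⟨h.s₁.Qn g hg x hx.1, fun k hk y hy => ?_⟩
  have h1 := hx.2 (g⁻¹ * k) (mul_mem (inv_mem hg) hk) y hy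
  calc g * x * g⁻¹ * (k * y * k⁻¹) = g * (x * (g⁻¹ * k * y * (g⁻¹ * k)⁻¹)) * g⁻¹ := by group
    _ = g * (g⁻¹ * k * y * (g⁻¹ * k)⁻¹ * x) * g⁻¹ := by rw [h1]
    _ = k * y * k⁻¹ * (g * x * g⁻¹) := by group

variable [Finite G]

theorem relIndex_C_le (h : Mut P₁ P₂ S Q₁ Q₂ V₁ V₂ a) : (CC P₁ Q₁ V₂).relIndex Q₁ ≤ a * a := by
  obtain ⟨g, hg, hgen⟩ := h.o₁.two
  set D := Q₁ ⊓ Q₂ with hD
  set D' := D.map (MulAut.conj g).toMonoidHom with hD'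
  have hD'Q : D'.relIndex Q₁ = a := by
    have h1 : Q₁.map (MulAut.conj g).toMonoidHom = Q₁ := by
      ext x
      constructor
      · rintro ⟨y, hy, rfl⟩
        exact h.s₁.Qn g hg y hy
      · intro hx
        have h2 := h.s₁.Qn g⁻¹ (inv_mem hg) x hx
        refine ⟨g⁻¹ * x * g⁻¹⁻¹, h2, ?_⟩
        change g * (g⁻¹ * x * g⁻¹⁻¹) * g⁻¹ = x
        group
    have h2 := relIndex_map_map_of_injective D Q₁ (f := (MulAut.conj g).toMonoidHom) (MulAut.conj g).injective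
    rw [h1] at h2
    rw [hD', h2]
    exact h.relIndex_D
  have hle : D ⊓ D' ≤ CC P₁ Q₁ V₂ := by
    rintro x ⟨hx, hx'⟩
    rw [mem_CC]
    refine ⟨hx.1, ?_⟩
    obtain ⟨y, hy, rfl⟩ := hx'
    have h1 := hgen (centralizer ({(MulAut.conj g).toMonoidHom y} : Set G)) ?_ ?_ ?_
    · intro k hk z hz
      exact (mem_centralizer_singleton_iff.1 (h1 k hk z hz)).symm
    · intro z hz
      rw [mem_centralizer_singleton_iff]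
      exact h.comm₂ (h.s₂.VQ hz) hx.2
    · intro z hz
      rw [mem_centralizer_singleton_iff]
      change g * z * g⁻¹ * (g * y * g⁻¹) = g * y * g⁻¹ * (g * z * g⁻¹)
      have h2 : z * y = y * z := h.comm₂ (h.s₂.VQ hz) hy.2
      calc g * z * g⁻¹ * (g * y * g⁻¹) = g * (z * y) * g⁻¹ := by group
        _ = g * (y * z) * g⁻¹ := by rw [h2]
        _ = g * y * g⁻¹ * (g * z * g⁻¹) := by group
    · intro z hz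
      rw [mem_centralizer_singleton_iff]
      exact h.comm₁ hz hx.1
  calc (CC P₁ Q₁ V₂).relIndex Q₁ ≤ (D ⊓ D').relIndex Q₁ := relIndex_le_of_le_left hle (relIndex_ne _ _)
    _ ≤ D.relIndex Q₁ * D'.relIndex Q₁ := relIndex_inf_le
    _ = a * a := by rw [hD'Q, hD, h.relIndex_D]

omit [Finite G] in
theorem le_relIndex_C (h : Mut P₁ P₂ S Q₁ Q₂ V₁ V₂ a) : a * a ≤ (CC P₁ Q₁ V₂).relIndex V₁ := by
  refine h.o₁.full.trans (le_of_eq ?_)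
  rw [CC, inf_relIndex_left, ← inf_relIndex_right (Q₁ ⊓ _) V₁, inf_right_comm, inf_eq_right.2 h.s₁.VQ,
    inf_relIndex_left]

/-- `Q₁ = V₁ C₁` -/
theorem decC (h : Mut P₁ P₂ S Q₁ Q₂ V₁ V₂ a) {x : G} (hx : x ∈ Q₁) :
    ∃ v ∈ V₁, ∃ y ∈ CC P₁ Q₁ V₂, x = v * y :=
  dec_of_relIndex h.s₁.VQ (h.relIndex_C_le.trans h.le_relIndex_C) x hx

theorem relIndex_C (h : Mut P₁ P₂ S Q₁ Q₂ V₁ V₂ a) : (CC P₁ Q₁ V₂).relIndex Q₁ = a * a :=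
  le_antisymm h.relIndex_C_le (h.le_relIndex_C.trans (relIndex_le_of_le_right h.s₁.VQ (relIndex_ne _ _)))

theorem a_pos (h : Mut P₁ P₂ S Q₁ Q₂ V₁ V₂ a) : 0 < a := by
  rw [← h.relIndex_D]
  exact Nat.pos_of_ne_zero (relIndex_ne _ _)

/-- `|Q₁ ∩ Q₂ : C₁| = a` -/
theorem relIndex_C_D (h : Mut P₁ P₂ S Q₁ Q₂ V₁ V₂ a) : (CC P₁ Q₁ V₂).relIndex (Q₁ ⊓ Q₂) = a := by
  have h1 := relIndex_mul_relIndex _ _ _ h.C_le (inf_le_left : Q₁ ⊓ Q₂ ≤ Q₁)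
  rw [h.relIndex_C, h.relIndex_D] at h1
  exact Nat.eq_of_mul_eq_mul_right h.a_pos h1

/-- `C₁ ∩ C₂ = 1` -/
theorem C_inf (h : Mut P₁ P₂ S Q₁ Q₂ V₁ V₂ a) : CC P₁ Q₁ V₂ ⊓ CC P₂ Q₂ V₁ = ⊥ := by
  set X := CC P₁ Q₁ V₂ ⊓ CC P₂ Q₂ V₁ with hX
  have hSn : ∀ g ∈ S, ∀ x ∈ X, g * x * g⁻¹ ∈ X := fun g hg x hx =>
    ⟨h.C_norm g (h.s₁.SP hg) x hx.1, h.symm.C_norm g (h.s₂.SP hg) x hx.2⟩
  have hN : ∀ g : G, (∀ x ∈ X, g * x * g⁻¹ ∈ X) → g ∈ normalizer (X : Set G) := by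
    intro g hg
    have h1 : X.map (MulAut.conj g).toMonoidHom ≤ X := by
      rintro _ ⟨x, hx, rfl⟩
      exact hg x hx
    have h2 : X.map (MulAut.conj g).toMonoidHom = X :=
      eq_of_le_of_card_ge h1 (by rw [card_map_of_injective (MulAut.conj g).injective])
    rw [mem_normalizer_iff]
    intro x
    refine ⟨hg x, fun hx => ?_⟩
    have h3 : g * x * g⁻¹ ∈ X.map (MulAut.conj g).toMonoidHom := by rw [h2]; exact hx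
    obtain ⟨y, hy, e⟩ := h3
    have e2 : y = x := by
      have : g * y * g⁻¹ = g * x * g⁻¹ := e
      simpa using this
    rwa [← e2]
  have key : ∀ {P₁ P₂ S Q₁ Q₂ V₁ V₂ : Subgroup G} (h : Mut P₁ P₂ S Q₁ Q₂ V₁ V₂ a),
      CC P₁ Q₁ V₂ ⊓ CC P₂ Q₂ V₁ = X → (∀ g ∈ S, ∀ x ∈ X, g * x * g⁻¹ ∈ X) →
      ∀ g ∈ P₁, ∀ x ∈ X, g * x * g⁻¹ ∈ X := by
    intro P₁ P₂ S Q₁ Q₂ V₁ V₂ h hX hSn g hg x hx
    have h1 := h.o₁.gen (normalizer (X : Set G)) (fun s hs => hN s (hSn s hs)) (fun k hk y hy => hN _ ?_) hg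
    · exact (mem_normalizer_iff.1 h1 x).1 hx
    · intro z hz
      have hz1 : z ∈ CC P₁ Q₁ V₂ := by rw [← hX] at hz; exact hz.1
      rw [mem_CC] at hz1
      rw [← hz1.2 k hk y hy, mul_inv_cancel_right]
      exact hz
  refine h.core X ?_ (key h rfl hSn) (key h.symm (inf_comm _ _) hSn)
  exact inf_le_left.trans (h.C_le.trans (inf_le_left.trans h.s₁.QS))

theorem card_D (h : Mut P₁ P₂ S Q₁ Q₂ V₁ V₂ a) :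
    Nat.card (CC P₁ Q₁ V₂) * a = Nat.card (Q₁ ⊓ Q₂ : Subgroup G) := by
  rw [← h.relIndex_C_D, mul_comm]
  exact card_of_relIndex h.C_le

/-- `|C₁| = |C₂|` -/
theorem card_C (h : Mut P₁ P₂ S Q₁ Q₂ V₁ V₂ a) : Nat.card (CC P₁ Q₁ V₂) = Nat.card (CC P₂ Q₂ V₁) := by
  have h1 := h.card_D
  have h2 := h.symm.card_D
  rw [inf_comm, ← h1] at h2
  exact (Nat.eq_of_mul_eq_mul_right h.a_pos h2).symm

/-- `|C₁| ≤ a` -/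
theorem card_C_le (h : Mut P₁ P₂ S Q₁ Q₂ V₁ V₂ a) : Nat.card (CC P₁ Q₁ V₂) ≤ a := by
  rw [h.card_C, ← h.relIndex_C_D]
  have h1 : CC P₂ Q₂ V₁ ≤ Q₁ ⊓ Q₂ := by rw [inf_comm]; exact h.symm.C_le
  have h2 : (CC P₁ Q₁ V₂).relIndex (CC P₂ Q₂ V₁) = Nat.card (CC P₂ Q₂ V₁) := by
    rw [← inf_relIndex_right, h.C_inf, relIndex_bot_left]
  rw [← h2]
  exact relIndex_le_of_le_right h1 (relIndex_ne _ _)

/-- `|Q₁| = a² |C₁|` -/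
theorem card_Q (h : Mut P₁ P₂ S Q₁ Q₂ V₁ V₂ a) : Nat.card Q₁ = a * a * Nat.card (CC P₁ Q₁ V₂) := by
  rw [← h.relIndex_C]
  exact (card_of_relIndex (h.C_le.trans inf_le_left)).symm

omit [Finite G] in
/-- `S₀ = Q₁ Q₂` -/
theorem mem_S₀ (h : Mut P₁ P₂ S Q₁ Q₂ V₁ V₂ a) {x : G} : x ∈ Q₁ ⊔ Q₂ ↔ ∃ u ∈ Q₁, ∃ v ∈ Q₂, x = u * v := by
  constructor
  · intro hx
    have hn : Q₂ ≤ normalizer (Q₁ : Set G) := by
      intro g hg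
      have hgP := h.s₁.SP (h.s₂.QS hg)
      rw [mem_normalizer_iff]
      intro x
      refine ⟨h.s₁.Qn g hgP x, fun hx => ?_⟩
      have h1 := h.s₁.Qn g⁻¹ (inv_mem hgP) _ hx
      have e : g⁻¹ * (g * x * g⁻¹) * g⁻¹⁻¹ = x := by group
      rwa [e] at h1
    have h1 : x ∈ ((Q₁ ⊔ Q₂ : Subgroup G) : Set G) := hx
    rw [coe_mul_of_right_le_normalizer_left Q₁ Q₂ hn] at h1
    obtain ⟨u, hu, v, hv, e⟩ := h1
    exact ⟨u, hu, v, hv, e.symm⟩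
  · rintro ⟨u, hu, v, hv, rfl⟩
    exact mul_mem (mem_sup_left hu) (mem_sup_right hv)

omit [Finite G] in
/-- `D = Z(S₀)` -/
theorem mem_D_iff (h : Mut P₁ P₂ S Q₁ Q₂ V₁ V₂ a) {x : G} :
    x ∈ Q₁ ⊓ Q₂ ↔ x ∈ Q₁ ⊔ Q₂ ∧ ∀ y ∈ Q₁ ⊔ Q₂, x * y = y * x := by
  constructor
  · intro hx
    refine ⟨mem_sup_left hx.1, fun y hy => ?_⟩
    obtain ⟨u, hu, v, hv, rfl⟩ := h.mem_S₀.1 hy
    rw [← mul_assoc, h.comm₁ hx.1 hu, mul_assoc, h.comm₂ hx.2 hv, mul_assoc]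
  · rintro ⟨hx, hc⟩
    have hxS : x ∈ S := (sup_le h.s₁.QS h.s₂.QS) hx
    exact ⟨h.s₁.cen x hxS fun v hv => hc v (mem_sup_left (h.s₁.VQ hv)),
      h.s₂.cen x hxS fun v hv => hc v (mem_sup_right (h.s₂.VQ hv))⟩

end Mut

end Cfsg.Agent.Omega.FFOne
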