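import Mathlib
import Cfsg.Agent.Omega.FFOne.Basic
import Cfsg.Agent.Omega.FFOne.Five

/-!
# OMEGA / SQT, node SQ2 = FF-1 (bb #9675), steps (1)-(5) for one natural `SL₂(q)`-module on both sides
-/

set_option autoImplicit false

open Subgroup
open scoped commutatorElement

namespace Cfsg.Agent.Omega.FFOne

variable {G : Type*} [Group G]

/-- Coordinates for the natural `SL₂(F)`-module `V / C_V(⟨A^P⟩)`: `A` acts as the transvection group `z ↦ z + y x`,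
`t` is a torus generator. -/
structure NatCo {F : Type*} [Field F] (P Q V A : Subgroup G) (x z y : G → F) (t : G) (ω : F) : Prop where
  x_mul : ∀ u ∈ V, ∀ v ∈ V, x (u * v) = x u + x v
  z_mul : ∀ u ∈ V, ∀ v ∈ V, z (u * v) = z u + z v
  surj : ∀ b c, ∃ v ∈ V, x v = b ∧ z v = c
  ker : ∀ v ∈ V, x v = 0 → z v = 0 → ∀ h ∈ P, ∀ w ∈ A, v * (h * w * h⁻¹) = h * w * h⁻¹ * v
  ker' : ∀ v ∈ V, (∀ h ∈ P, ∀ w ∈ A, v * (h * w * h⁻¹) = h * w * h⁻¹ * v) → x v = 0 ∧ z v = 0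
  yx : ∀ w ∈ A, ∀ v ∈ V, x (w * v * w⁻¹) = x v
  yz : ∀ w ∈ A, ∀ v ∈ V, z (w * v * w⁻¹) = z v + y w * x v
  y_surj : ∀ b, ∃ w ∈ A, y w = b
  fix : ∀ v ∈ V, x v = 0 → ∀ w ∈ A, v * w = w * v
  tP : t ∈ P
  tA : ∀ w ∈ A, ∃ w' ∈ A, ∃ q ∈ Q, t * w * t⁻¹ = w' * q
  tC : ∀ c ∈ CC P Q A, t * c * t⁻¹ = c
  tx : ∀ v ∈ V, x (t * v * t⁻¹) = ω⁻¹ * x v
  tz : ∀ v ∈ V, z (t * v * t⁻¹) = ω * z v
  gen : ∀ a : F, a ≠ 0 → ∃ n : ℕ, a = ω ^ n
  ω0 : ω ≠ 0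
  ω1 : ω ≠ 1

/-- index of the kernel of an additive surjective coordinate -/
theorem relIndex_ker' {F : Type*} [Field F] {Q K : Subgroup G} {f : G → F}
    (hm : ∀ u ∈ Q, ∀ v ∈ Q, f (u * v) = f u + f v) (hs : ∀ a, ∃ u ∈ Q, f u = a)
    (hK : ∀ u ∈ Q, u ∈ K ↔ f u = 0) : K.relIndex Q = Nat.card F := by
  let φ : Q →* Multiplicative F :=
    { toFun := fun u => Multiplicative.ofAdd (f u)
      map_one' := by
        change Multiplicative.ofAdd (f ((1 : Q) : G)) = 1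
        rw [coe_one, add_one' hm]; rfl
      map_mul' := fun u v => by
        change Multiplicative.ofAdd (f ((u : G) * v)) = _
        rw [hm u u.2 v v.2]; rfl }
  have h1 : K.subgroupOf Q = φ.ker := by
    ext u
    rw [mem_subgroupOf, hK u u.2, MonoidHom.mem_ker]
    exact Iff.rfl
  have h2 : φ.range = ⊤ := by
    rw [MonoidHom.range_eq_top]
    intro a
    obtain ⟨u, hu, h⟩ := hs a.toAdd
    exact ⟨⟨u, hu⟩, congrArg Multiplicative.ofAdd h⟩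
  rw [relIndex, h1, index_ker, h2, card_top]
  rfl

/-- extension of an additive coordinate from `V` to `Q = V C` -/
theorem exists_ext {F : Type*} [Field F] {V C Q : Subgroup G} (hVQ : V ≤ Q) (hCQ : C ≤ Q)
    (hcomm : ∀ u ∈ Q, ∀ v ∈ Q, u * v = v * u) (hdec : ∀ u ∈ Q, ∃ v ∈ V, ∃ c ∈ C, u = v * c) {f : G → F}
    (hm : ∀ u ∈ V, ∀ v ∈ V, f (u * v) = f u + f v) (hk : ∀ u ∈ V, u ∈ C → f u = 0) :
    ∃ f' : G → F, (∀ u ∈ Q, ∀ v ∈ Q, f' (u * v) = f' u + f' v) ∧ (∀ v ∈ V, ∀ c ∈ C, f' (v * c) = f v) := by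
  classical
  let f' : G → F := fun u => if h : u ∈ Q then f (hdec u h).choose else 0
  have key : ∀ v ∈ V, ∀ c ∈ C, f' (v * c) = f v := by
    intro v hv c hc
    have hu : v * c ∈ Q := mul_mem (hVQ hv) (hCQ hc)
    have e : f' (v * c) = f (hdec _ hu).choose := dif_pos hu
    rw [e]
    obtain ⟨hv', c', hc', e'⟩ := (hdec _ hu).choose_spec
    set v' := (hdec _ hu).choose
    have h1 : v'⁻¹ * v = c' * c⁻¹ := by
      rw [inv_mul_eq_iff_eq_mul, ← mul_assoc, ← e', mul_inv_cancel_right]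
    have h2 : f (v'⁻¹ * v) = 0 := hk _ (mul_mem (inv_mem hv') hv) (by rw [h1]; exact mul_mem hc' (inv_mem hc))
    rw [hm _ (inv_mem hv') _ hv, add_inv' hm hv'] at h2
    linear_combination -h2
  refine ⟨f', fun u hu v hv => ?_, key⟩
  obtain ⟨u₁, hu₁, c₁, hc₁, rfl⟩ := hdec u hu
  obtain ⟨v₁, hv₁, c₂, hc₂, rfl⟩ := hdec v hv
  rw [key u₁ hu₁ c₁ hc₁, key v₁ hv₁ c₂ hc₂, ← hm _ hu₁ _ hv₁]
  have e : u₁ * c₁ * (v₁ * c₂) = (u₁ * v₁) * (c₁ * c₂) := by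
    have h1 := hcomm c₁ (hCQ hc₁) v₁ (hVQ hv₁)
    calc u₁ * c₁ * (v₁ * c₂) = u₁ * (c₁ * v₁) * c₂ := by group
      _ = u₁ * (v₁ * c₁) * c₂ := by rw [h1]
      _ = _ := by group
  rw [e]
  exact key _ (mul_mem hu₁ hv₁) _ (mul_mem hc₁ hc₂)

namespace Mut

variable {P₁ P₂ S Q₁ Q₂ V₁ V₂ : Subgroup G} {a : ℕ}

theorem cm_mem (h : Mut P₁ P₂ S Q₁ Q₂ V₁ V₂ a) {u v : G} (hu : u ∈ Q₁) (hv : v ∈ Q₂) : cm u v ∈ Q₁ ⊓ Q₂ := by
  refine mem_inf.2 ⟨?_, ?_⟩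
  · have h1 := h.s₁.Qn v (h.s₁.SP (h.s₂.QS hv)) u⁻¹ (inv_mem hu)
    have h2 := mul_mem hu h1
    have e : cm u v = u * (v * u⁻¹ * v⁻¹) := by simp only [cm]; group
    rw [e]; exact h2
  · have h1 := h.s₂.Qn u (h.s₂.SP (h.s₁.QS hu)) v hv
    exact mul_mem h1 (inv_mem hv)

theorem base (h : Mut P₁ P₂ S Q₁ Q₂ V₁ V₂ a) : Base Q₁ Q₂ (Q₁ ⊓ Q₂) where
  D₁ := inf_le_left
  D₂ := inf_le_right
  sq₁ := fun _ hu => h.sq₁ hu
  sq₂ := fun _ hu => h.sq₂ hu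
  mem := fun _ hu _ hv => h.cm_mem hu hv

variable [Finite G] {F : Type*} [Field F] {x z y : G → F} {t : G} {ω : F}

theorem exists_co (h : Mut P₁ P₂ S Q₁ Q₂ V₁ V₂ a) (n : NatCo P₁ Q₁ V₁ V₂ x z y t ω) :
    ∃ X Y Z : G → F, (∀ v ∈ V₁, X v = x v ∧ Z v = z v) ∧ (∀ w ∈ V₂, Y w = y w) ∧
      Co Q₁ Q₂ (Q₁ ⊓ Q₂) (CC P₁ Q₁ V₂) X Y Z t ω := by
  have b := h.base
  -- `x` and the centraliser
  have hxD : ∀ v ∈ V₁, x v = 0 ↔ v ∈ Q₁ ⊓ Q₂ := by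
    intro v hv
    constructor
    · intro hx
      exact h.mem_D (h.s₁.VQ hv) (n.fix v hv hx)
    · intro hvD
      obtain ⟨w, hw, hyw⟩ := n.y_surj 1
      have h1 := n.yz w hw v hv
      have h2 : w * v = v * w := h.comm₂ (h.s₂.VQ hw) hvD.2
      rw [h2, mul_inv_cancel_right, hyw, one_mul] at h1
      exact left_eq_add.1 h1
  have hk : ∀ v ∈ V₁, v ∈ CC P₁ Q₁ V₂ → x v = 0 ∧ z v = 0 := fun v hv hvC =>
    n.ker' v hv (fun h' hh w hw => ((mem_CC.1 hvC).2 h' hh w hw))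
  have hcomm₁ : ∀ u ∈ Q₁, ∀ v ∈ Q₁, u * v = v * u := fun u hu v hv => h.comm₁ hu hv
  have hCQ : CC P₁ Q₁ V₂ ≤ Q₁ := inf_le_left
  obtain ⟨X, hXm, hX⟩ := exists_ext h.s₁.VQ hCQ hcomm₁ (fun u hu => h.decC hu) n.x_mul (fun v hv hvC => (hk v hv hvC).1)
  obtain ⟨Z, hZm, hZ⟩ := exists_ext h.s₁.VQ hCQ hcomm₁ (fun u hu => h.decC hu) n.z_mul (fun v hv hvC => (hk v hv hvC).2)
  have two : (2 : F) = 0 := by
    obtain ⟨v, hv, hx1, -⟩ := n.surj 1 0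
    have h1 := n.x_mul v hv v hv
    rw [h.s₁.sq v hv, add_one' n.x_mul, hx1] at h1
    rw [← one_add_one_eq_two, ← h1]
  -- `y`
  have hym : ∀ u ∈ V₂, ∀ w ∈ V₂, y (u * w) = y u + y w := by
    intro u hu w hw
    obtain ⟨v, hv, hx1, -⟩ := n.surj 1 0
    have h1 := n.yz (u * w) (mul_mem hu hw) v hv
    have hwv : w * v * w⁻¹ ∈ V₁ := h.s₁.Vn w (h.s₁.SP (h.s₂.QS (h.s₂.VQ hw))) v hv
    have h2 := n.yz u hu _ hwv
    rw [n.yz w hw v hv, n.yx w hw v hv, hx1] at h2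
    have e : u * w * v * (u * w)⁻¹ = u * (w * v * w⁻¹) * u⁻¹ := by group
    rw [e, h2, hx1] at h1
    linear_combination -h1
  have hyD : ∀ w ∈ V₂, w ∈ Q₁ ⊓ Q₂ → y w = 0 := by
    intro w hw hwD
    obtain ⟨v, hv, hx1, -⟩ := n.surj 1 0
    have h1 := n.yz w hw v hv
    have h2 : w * v = v * w := h.comm₁ hwD.1 (h.s₁.VQ hv)
    rw [h2, mul_inv_cancel_right, hx1, mul_one] at h1
    exact left_eq_add.1 h1
  obtain ⟨Y, hYm, hY⟩ := exists_ext h.s₂.VQ (inf_le_right : Q₁ ⊓ Q₂ ≤ Q₂) (fun u hu v hv => h.comm₂ hu hv)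
    (fun u hu => h.dec₂ hu) hym hyD
  have hXV : ∀ v ∈ V₁, X v = x v := fun v hv => by
    have := hX v hv 1 (one_mem _); rwa [mul_one] at this
  have hZV : ∀ v ∈ V₁, Z v = z v := fun v hv => by
    have := hZ v hv 1 (one_mem _); rwa [mul_one] at this
  have hYV : ∀ v ∈ V₂, Y v = y v := fun v hv => by
    have := hY v hv 1 (one_mem _); rwa [mul_one] at this
  have hXC : ∀ c ∈ CC P₁ Q₁ V₂, X c = 0 := fun c hc => by
    have := hX 1 (one_mem _) c hc; rwa [one_mul, add_one' n.x_mul] at this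
  have hZC : ∀ c ∈ CC P₁ Q₁ V₂, Z c = 0 := fun c hc => by
    have := hZ 1 (one_mem _) c hc; rwa [one_mul, add_one' n.z_mul] at this
  have hYD : ∀ d ∈ Q₁ ⊓ Q₂, Y d = 0 := fun c hc => by
    have := hY 1 (one_mem _) c hc; rwa [one_mul, add_one' hym] at this
  have hx_ker : ∀ u ∈ Q₁, X u = 0 ↔ u ∈ Q₁ ⊓ Q₂ := by
    intro u hu
    obtain ⟨v, hv, c, hc, rfl⟩ := h.decC hu
    rw [hX v hv c hc, hxD v hv]
    exact (mul_mem_cancel_right (h.C_le hc)).symm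
  -- `|F| = a`
  have hF : Nat.card F = a := by
    rw [← h.relIndex_D]
    refine (relIndex_ker' hXm (fun b => ?_) fun u hu => (hx_ker u hu).symm).symm
    obtain ⟨v, hv, h1, -⟩ := n.surj b 0
    exact ⟨v, h.s₁.VQ hv, by rw [hXV v hv, h1]⟩
  have hY_surj : ∀ b, ∃ u ∈ Q₂, Y u = b := by
    intro b
    obtain ⟨w, hw, h1⟩ := n.y_surj b
    exact ⟨w, h.s₂.VQ hw, by rw [hYV w hw, h1]⟩
  have hY_ker : ∀ u ∈ Q₂, Y u = 0 ↔ u ∈ Q₁ ⊓ Q₂ := by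
    intro u hu
    let K : Subgroup G :=
      { carrier := {u | u ∈ Q₂ ∧ Y u = 0}
        one_mem' := ⟨one_mem _, add_one' hYm⟩
        mul_mem' := fun {a b} ha hb => ⟨mul_mem ha.1 hb.1, by rw [hYm _ ha.1 _ hb.1, ha.2, hb.2, add_zero]⟩
        inv_mem' := fun {a} ha => ⟨inv_mem ha.1, by rw [add_inv' hYm ha.1, ha.2, neg_zero]⟩ }
    have hKQ : K ≤ Q₂ := fun u hu => hu.1
    have hDK : Q₁ ⊓ Q₂ ≤ K := fun d hd => ⟨hd.2, hYD d hd⟩
    have h1 : K.relIndex Q₂ = Nat.card F := relIndex_ker' hYm hY_surj fun u hu => ⟨fun h => h.2, fun h => ⟨hu, h⟩⟩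
    have h2 := relIndex_mul_relIndex _ _ _ hDK hKQ
    have h3 : (Q₁ ⊓ Q₂).relIndex Q₂ = a := by rw [inf_comm]; exact h.symm.relIndex_D
    rw [h1, h3, hF] at h2
    have h4 : (Q₁ ⊓ Q₂).relIndex K = 1 := by
      have := h.a_pos
      exact Nat.eq_of_mul_eq_mul_right this (by rw [h2, one_mul])
    have h5 : K ≤ Q₁ ⊓ Q₂ := relIndex_eq_one.1 h4
    exact ⟨fun h' => h5 ⟨hu, h'⟩, hYD u⟩
  -- commutators
  have hcom : ∀ u ∈ Q₁, ∀ v ∈ Q₂, Z (cm u v) = X u * Y v := by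
    intro u' hu' v hv
    obtain ⟨u, hu, c, hc, rfl⟩ := h.decC hu'
    obtain ⟨w, hw, d, hd, rfl⟩ := h.dec₂ hv
    rw [hX u hu c hc, hY w hw d hd]
    have hwQ := h.s₂.VQ hw
    have huQ := h.s₁.VQ hu
    rw [b.cm_mul_left huQ (h.C_le hc).1 hv, b.cm_D_left (h.C_le hc) hv, mul_one, b.cm_mul_right huQ hwQ hd.2,
      b.cm_D_right huQ hd, mul_one]
    have e : cm u w = u * (w * u⁻¹ * w⁻¹) := by simp only [cm]; group
    have hwu : w * u⁻¹ * w⁻¹ ∈ V₁ := h.s₁.Vn w (h.s₁.SP (h.s₂.QS hwQ)) _ (inv_mem hu)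
    rw [e, hZV _ (mul_mem hu hwu), n.z_mul _ hu _ hwu, n.yz w hw _ (inv_mem hu), add_inv' n.z_mul hu,
      add_inv' n.x_mul hu]
    linear_combination (-(y w * x u)) * two
  have htQ₁ : ∀ u ∈ Q₁, t * u * t⁻¹ ∈ Q₁ := fun u hu => h.s₁.Qn t n.tP u hu
  -- `t` normalises `S₀`
  have htS : ∀ s ∈ Q₁ ⊔ Q₂, t * s * t⁻¹ ∈ Q₁ ⊔ Q₂ := by
    intro s hs
    obtain ⟨u, hu, v, hv, rfl⟩ := h.mem_S₀.1 hs
    obtain ⟨w, hw, d, hd, rfl⟩ := h.dec₂ hv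
    obtain ⟨w', hw', q, hq, e⟩ := n.tA w hw
    have e2 : t * (u * (w * d)) * t⁻¹ = (t * u * t⁻¹) * (t * w * t⁻¹) * (t * d * t⁻¹) := by group
    rw [e2, e]
    exact mul_mem (mul_mem (mem_sup_left (htQ₁ u hu)) (mul_mem (mem_sup_right (h.s₂.VQ hw')) (mem_sup_left hq)))
      (mem_sup_left (htQ₁ d hd.1))
  have htD : ∀ d ∈ Q₁ ⊓ Q₂, t * d * t⁻¹ ∈ Q₁ ⊓ Q₂ := by
    intro d hd
    rw [h.mem_D_iff] at hd ⊢
    refine ⟨htS d hd.1, fun s hs => ?_⟩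
    obtain ⟨s', hs', rfl⟩ := conj_surj t htS s hs
    have h1 := hd.2 s' hs'
    calc t * d * t⁻¹ * (t * s' * t⁻¹) = t * (d * s') * t⁻¹ := by group
      _ = t * (s' * d) * t⁻¹ := by rw [h1]
      _ = _ := by group
  have htQ₂ : ∀ v ∈ Q₂, t * v * t⁻¹ ∈ Q₂ := by
    intro v hv
    by_cases hvD : v ∈ Q₁ ⊓ Q₂
    · exact (htD v hvD).2
    obtain ⟨w, hw, d, hd, e⟩ := h.dec₂ hv
    obtain ⟨w', hw', q, hq, e1⟩ := n.tA w hw
    have e2 : t * v * t⁻¹ = w' * (q * (t * d * t⁻¹)) := by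
      rw [e]
      calc t * (w * d) * t⁻¹ = (t * w * t⁻¹) * (t * d * t⁻¹) := by group
        _ = w' * q * (t * d * t⁻¹) := by rw [e1]
        _ = _ := by group
    set q' := q * (t * d * t⁻¹) with hq'
    have hq'Q : q' ∈ Q₁ := mul_mem hq (htQ₁ d hd.1)
    have hw'Q := h.s₂.VQ hw'
    have h3 : (w' * q') * (w' * q') = 1 := by
      rw [← e2]
      calc t * v * t⁻¹ * (t * v * t⁻¹) = t * (v * v) * t⁻¹ := by group
        _ = 1 := by rw [h.sq₂ hv]; group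
    have h4 : cm q' w' = 1 := by
      have h5 : q' * w' = w' * q' := by
        have h6 := inv_eq_of_mul_eq_one_left h3
        rw [mul_inv_rev, h.inv₁ hq'Q, inv_eq_of_mul_eq_one_left (h.sq₂ hw'Q)] at h6
        exact h6
      rw [cm, h5]; group
    have h5 := hcom q' hq'Q w' hw'Q
    rw [h4, add_one' hZm] at h5
    rcases mul_eq_zero.1 h5.symm with h6 | h6
    · rw [e2]
      exact mul_mem hw'Q ((hx_ker q' hq'Q).1 h6).2
    · exfalso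
      have h7 : t * v * t⁻¹ ∈ Q₁ := by
        rw [e2]
        exact mul_mem ((hY_ker w' hw'Q).1 h6).1 hq'Q
      have h8 := h.s₁.Qn t⁻¹ (inv_mem n.tP) _ h7
      have e3 : t⁻¹ * (t * v * t⁻¹) * t⁻¹⁻¹ = v := by group
      rw [e3] at h8
      exact hvD ⟨h8, hv⟩
  refine ⟨X, Y, Z, fun v hv => ⟨hXV v hv, hZV v hv⟩, hYV,
    { CD := h.C_le
      x_mul := hXm
      x_surj := fun b => by
        obtain ⟨v, hv, h1, -⟩ := n.surj b 0
        exact ⟨v, h.s₁.VQ hv, by rw [hXV v hv, h1]⟩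
      x_ker := hx_ker
      y_mul := hYm
      y_surj := hY_surj
      y_ker := hY_ker
      z_mul := fun u hu v hv => hZm u hu.1 v hv.1
      z_surj := fun b => by
        obtain ⟨v, hv, h1, h2⟩ := n.surj 0 b
        exact ⟨v, (hxD v hv).1 h1, by rw [hZV v hv, h2]⟩
      z_ker := fun u hu => by
        obtain ⟨v, hv, c, hc, rfl⟩ := h.decC hu.1
        rw [hZ v hv c hc]
        have hvD : v ∈ Q₁ ⊓ Q₂ := (mul_mem_cancel_right (h.C_le hc)).1 hu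
        constructor
        · intro h0
          refine mul_mem ?_ hc
          rw [mem_CC]
          exact ⟨h.s₁.VQ hv, n.ker v hv ((hxD v hv).2 hvD) h0⟩
        · intro h0
          exact (hk v hv ((mul_mem_cancel_right hc).1 h0)).2
      com := hcom
      tQ₁ := htQ₁
      tQ₂ := htQ₂
      tD := htD
      tx := fun u hu => by
        obtain ⟨v, hv, c, hc, rfl⟩ := h.decC hu
        have e : t * (v * c) * t⁻¹ = (t * v * t⁻¹) * c := by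
          conv_rhs => rw [← n.tC c hc]
          group
        rw [e, hX _ (h.s₁.Vn t n.tP v hv) c hc, hX v hv c hc, n.tx v hv]
      tz := fun u hu => by
        obtain ⟨v, hv, c, hc, rfl⟩ := h.decC hu.1
        have e : t * (v * c) * t⁻¹ = (t * v * t⁻¹) * c := by
          conv_rhs => rw [← n.tC c hc]
          group
        rw [e, hZ _ (h.s₁.Vn t n.tP v hv) c hc, hZ v hv c hc, n.tz v hv]
      tC := n.tC
      gen := n.gen
      ω0 := n.ω0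
      ω1 := n.ω1 }⟩

end Mut

theorem fix_of_odd {g u e : G} {n : ℕ} (hn : Odd n) (hg : g ^ n = 1) (h1 : g * u * g⁻¹ = e * u)
    (h2 : g * e * g⁻¹ = e) (h3 : e * e = 1) : g * u * g⁻¹ = u := by
  have key : ∀ k : ℕ, g ^ k * u * (g ^ k)⁻¹ = e ^ k * u := by
    intro k
    induction k with
    | zero => simp
    | succ k ih =>
      have h4 : g * e ^ k * g⁻¹ = e ^ k := by
        have h5 : g * e = e * g := mul_inv_eq_iff_eq_mul.1 h2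
        have h6 : Commute g e := h5
        rw [(h6.pow_right k).eq, mul_inv_cancel_right]
      calc g ^ (k + 1) * u * (g ^ (k + 1))⁻¹ = g * (g ^ k * u * (g ^ k)⁻¹) * g⁻¹ := by
            rw [pow_succ']; group
        _ = (g * e ^ k * g⁻¹) * (g * u * g⁻¹) := by rw [ih]; group
        _ = e ^ (k + 1) * u := by rw [h4, h1, pow_succ]; group
  have h4 := key n
  rw [hg, one_mul, inv_one, mul_one] at h4
  have h5 : e ^ n = 1 := (right_eq_mul.1 h4)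
  obtain ⟨m, rfl⟩ := hn
  have h6 : e ^ 2 = 1 := by rw [pow_two, h3]
  rw [pow_succ, pow_mul, h6, one_pow, one_mul] at h5
  rw [h1, h5, one_mul]

namespace Mut

variable {P₁ P₂ S Q₁ Q₂ V₁ V₂ : Subgroup G} {a : ℕ} [Finite G]

/-- normal 2-subgroups of `N_G(S₀)` lie in `S`, so the chain stabiliser of `S₀ > D > S₀' > 1` centralises `D` -/
theorem hR (h : Mut P₁ P₂ S Q₁ Q₂ V₁ V₂ a)
    (hN : ∀ R : Subgroup G, IsPGroup 2 R → R ≤ normalizer ((Q₁ ⊔ Q₂ : Subgroup G) : Set G) →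
      (∀ g ∈ normalizer ((Q₁ ⊔ Q₂ : Subgroup G) : Set G), ∀ r ∈ R, g * r * g⁻¹ ∈ R) → R ≤ S)
    (hc : ∀ g : G, (∀ s ∈ Q₁ ⊔ Q₂, g * s = s * g) → g ∈ Q₁ ⊔ Q₂) (r : G)
    (hr₁ : ∀ u ∈ Q₁, r * u * r⁻¹ * u⁻¹ ∈ Q₁ ⊓ Q₂) (hr₂ : ∀ v ∈ Q₂, r * v * r⁻¹ * v⁻¹ ∈ Q₁ ⊓ Q₂)
    (hrD : ∀ d ∈ Q₁ ⊓ Q₂, ∃ u ∈ Q₁, ∃ v ∈ Q₂, r * d * r⁻¹ * d⁻¹ = cm u v)
    (hrE : ∀ u ∈ Q₁, ∀ v ∈ Q₂, r * cm u v * r⁻¹ = cm u v) : ∀ d ∈ Q₁ ⊓ Q₂, r * d * r⁻¹ = d := by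
  have b := h.base
  set S₀ : Subgroup G := Q₁ ⊔ Q₂ with hS₀
  set D : Subgroup G := Q₁ ⊓ Q₂ with hD
  set E : Subgroup G := ⁅S₀, S₀⁆ with hE
  have hDS : D ≤ S₀ := inf_le_left.trans le_sup_left
  -- `E` is generated by the `cm u v`
  have hEle : E ≤ closure {e : G | ∃ u ∈ Q₁, ∃ v ∈ Q₂, e = cm u v} := by
    rw [hE, commutator_le]
    intro s hs s' hs'
    obtain ⟨u, hu, v, hv, rfl⟩ := h.mem_S₀.1 hs
    obtain ⟨u', hu', v', hv', rfl⟩ := h.mem_S₀.1 hs'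
    have e1 : ⁅u * v, u' * v'⁆ = cm u v' * cm u' v := by
      have hz : ∀ d ∈ D, ∀ s ∈ S₀, d * s = s * d := fun d hd s hs => (h.mem_D_iff.1 hd).2 s hs
      have m1 := h.cm_mem hu hv'
      have m2 := h.cm_mem hu' hv
      have hvS : v ∈ S₀ := mem_sup_right hv
      have huS : u ∈ S₀ := mem_sup_left hu
      have hu'S : u' ∈ S₀ := mem_sup_left hu'
      have hv'S : v' ∈ S₀ := mem_sup_right hv'
      rw [commutatorElement_def]
      -- `v u' = [u',v]⁻¹... u' v`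
      have e2 : v * u' = cm u' v * (u' * v) := by
        rw [← b.cm_inv hu' hv]; simp only [cm]; group
      have e3 : u * v' = cm u v' * (v' * u) := by simp only [cm]; group
      have e4 : v * v' = v' * v := h.comm₂ hv hv'
      have e5 : u * u' = u' * u := h.comm₁ hu hu'
      have e6 : u * v * (u' * v') = cm u v' * cm u' v * ((u' * v') * (u * v)) := by
        calc u * v * (u' * v') = u * (v * u') * v' := by group
          _ = u * (cm u' v * (u' * v)) * v' := by rw [e2]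
          _ = (u * cm u' v) * u' * (v * v') := by group
          _ = (cm u' v * u) * u' * (v' * v) := by rw [← hz _ m2 u huS, e4]
          _ = cm u' v * (u * u') * (v' * v) := by group
          _ = cm u' v * (u' * u) * (v' * v) := by rw [e5]
          _ = cm u' v * u' * (u * v') * v := by group
          _ = cm u' v * u' * (cm u v' * (v' * u)) * v := by rw [e3]
          _ = cm u' v * (u' * cm u v') * v' * u * v := by group
          _ = cm u' v * (cm u v' * u') * v' * u * v := by rw [← hz _ m1 u' hu'S]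
          _ = (cm u' v * cm u v') * ((u' * v') * (u * v)) := by group
          _ = _ := by rw [hz _ m2 _ (hDS m1)]
      calc u * v * (u' * v') * (u * v)⁻¹ * (u' * v')⁻¹
          = cm u v' * cm u' v * ((u' * v') * (u * v)) * (u * v)⁻¹ * (u' * v')⁻¹ := by rw [e6]
        _ = _ := by group
    rw [e1]
    exact mul_mem (subset_closure ⟨u, hu, v', hv', rfl⟩) (subset_closure ⟨u', hu', v, hv, rfl⟩)
  have hED : E ≤ D := by
    refine hEle.trans ?_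
    rw [closure_le]
    rintro _ ⟨u, hu, v, hv, rfl⟩
    exact h.cm_mem hu hv
  have hcE : ∀ u ∈ Q₁, ∀ v ∈ Q₂, cm u v ∈ E := fun u hu v hv => by
    have := commutator_mem_commutator (show u ∈ S₀ from mem_sup_left hu) (show v ∈ S₀ from mem_sup_right hv)
    rw [commutatorElement_def] at this
    exact this
  -- the chain stabiliser
  let T : Set G := {g | (∀ s ∈ S₀, g * s * g⁻¹ * s⁻¹ ∈ D) ∧ (∀ d ∈ D, g * d * g⁻¹ * d⁻¹ ∈ E) ∧
    ∀ e ∈ E, g * e * g⁻¹ = e}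
  have hTD : ∀ g ∈ T, ∀ d ∈ D, g * d * g⁻¹ ∈ D := by
    intro g hg d hd
    have h1 := mul_mem (hED (hg.2.1 d hd)) hd
    rwa [inv_mul_cancel_right] at h1
  have hT1 : (1 : G) ∈ T := by
    refine ⟨fun s hs => ?_, fun d hd => ?_, fun e he => ?_⟩ <;> simp
  have hTm : ∀ g ∈ T, ∀ g' ∈ T, g * g' ∈ T := by
    intro g hg g' hg'
    refine ⟨fun s hs => ?_, fun d hd => ?_, fun e he => ?_⟩
    · have e1 : g * g' * s * (g * g')⁻¹ * s⁻¹ = (g * (g' * s * g'⁻¹ * s⁻¹) * g⁻¹) * (g * s * g⁻¹ * s⁻¹) := by group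
      rw [e1]
      exact mul_mem (hTD g hg _ (hg'.1 s hs)) (hg.1 s hs)
    · have e1 : g * g' * d * (g * g')⁻¹ * d⁻¹ = (g * (g' * d * g'⁻¹ * d⁻¹) * g⁻¹) * (g * d * g⁻¹ * d⁻¹) := by group
      rw [e1, hg.2.2 _ (hg'.2.1 d hd)]
      exact mul_mem (hg'.2.1 d hd) (hg.2.1 d hd)
    · have e1 : g * g' * e * (g * g')⁻¹ = g * (g' * e * g'⁻¹) * g⁻¹ := by group
      rw [e1, hg'.2.2 e he, hg.2.2 e he]
  have hTp : ∀ g ∈ T, ∀ k : ℕ, g ^ k ∈ T := by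
    intro g hg k
    induction k with
    | zero => rw [pow_zero]; exact hT1
    | succ k ih => rw [pow_succ]; exact hTm _ ih _ hg
  let R : Subgroup G :=
    { carrier := T
      one_mem' := hT1
      mul_mem' := fun {a b} ha hb => hTm a ha b hb
      inv_mem' := fun {g} hg => by
        have h1 : g * g ^ (orderOf g - 1) = 1 := by
          rw [← pow_succ', Nat.sub_add_cancel (orderOf_pos g), pow_orderOf_eq_one]
        rw [inv_eq_of_mul_eq_one_right h1]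
        exact hTp g hg _ }
  have hodd : ∀ g ∈ R, ∀ n : ℕ, Odd n → g ^ n = 1 → g = 1 := by
    intro g hg n hn hgn
    have hD1 : ∀ d ∈ D, g * d * g⁻¹ = d := by
      intro d hd
      refine fix_of_odd hn hgn (e := g * d * g⁻¹ * d⁻¹) (by group) (hg.2.2 _ (hg.2.1 d hd)) ?_
      exact h.sq₁ (hED (hg.2.1 d hd)).1
    have hS1 : ∀ s ∈ S₀, g * s * g⁻¹ = s := by
      intro s hs
      refine fix_of_odd hn hgn (e := g * s * g⁻¹ * s⁻¹) (by group) (hD1 _ (hg.1 s hs)) ?_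
      exact h.sq₁ (hg.1 s hs).1
    have h1 : ∀ s ∈ S₀, g * s = s * g := fun s hs => mul_inv_eq_iff_eq_mul.1 (hS1 s hs)
    have h2 : g ∈ D := h.mem_D_iff.2 ⟨hc g h1, h1⟩
    have h3 : g ^ 2 = 1 := by rw [pow_two]; exact h.sq₁ h2.1
    obtain ⟨m, rfl⟩ := hn
    rwa [pow_succ, pow_mul, h3, one_pow, one_mul] at hgn
  have hRp : IsPGroup 2 R := by
    intro g
    obtain ⟨k, m, hm, e⟩ := Nat.exists_eq_two_pow_mul_odd (orderOf_pos (g : G)).ne'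
    refine ⟨k, ?_⟩
    have h1 := hodd ((g : G) ^ 2 ^ k) (hTp _ g.2 _) m hm (by rw [← pow_mul, ← e, pow_orderOf_eq_one])
    exact Subtype.ext (by rw [coe_pow, h1, coe_one])
  have hRS₀ : ∀ g ∈ R, ∀ s ∈ S₀, g * s * g⁻¹ ∈ S₀ := by
    intro g hg s hs
    have h1 := mul_mem (hDS (hg.1 s hs)) hs
    rwa [inv_mul_cancel_right] at h1
  have hRN : R ≤ normalizer (S₀ : Set G) := by
    intro g hg
    rw [mem_normalizer_iff]
    intro s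
    refine ⟨hRS₀ g hg s, fun hs => ?_⟩
    have h1 := hRS₀ g⁻¹ (inv_mem hg) _ hs
    have e : g⁻¹ * (g * s * g⁻¹) * g⁻¹⁻¹ = s := by group
    rwa [e] at h1
  have hRnorm : ∀ g ∈ normalizer (S₀ : Set G), ∀ r ∈ R, g * r * g⁻¹ ∈ R := by
    intro g hg r hr
    have hgS : ∀ g ∈ normalizer (S₀ : Set G), ∀ s ∈ S₀, g * s * g⁻¹ ∈ S₀ := fun g hg s hs =>
      (mem_normalizer_iff.1 hg s).1 hs
    have hginv : g⁻¹ ∈ normalizer (S₀ : Set G) := inv_mem hg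
    have hgD : ∀ g ∈ normalizer (S₀ : Set G), ∀ d ∈ D, g * d * g⁻¹ ∈ D := by
      intro g hg d hd
      rw [h.mem_D_iff] at hd ⊢
      refine ⟨hgS g hg d hd.1, fun s hs => ?_⟩
      have h1 := hd.2 _ (hgS g⁻¹ (inv_mem hg) s hs)
      rw [inv_inv] at h1
      calc g * d * g⁻¹ * s = g * (d * (g⁻¹ * s * g)) * g⁻¹ := by group
        _ = g * (g⁻¹ * s * g * d) * g⁻¹ := by rw [h1]
        _ = s * (g * d * g⁻¹) := by group
    have hgE : ∀ g ∈ normalizer (S₀ : Set G), ∀ e ∈ E, g * e * g⁻¹ ∈ E := by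
      intro g hg e he
      have h1 : S₀.map (MulAut.conj g).toMonoidHom = S₀ := by
        rw [mem_normalizer_iff_map_conj_eq] at hg
        exact hg
      have h2 : E.map (MulAut.conj g).toMonoidHom = E := by
        rw [hE, map_commutator, h1]
      rw [← h2]
      exact ⟨e, he, rfl⟩
    refine ⟨fun s hs => ?_, fun d hd => ?_, fun e he => ?_⟩
    · have h1 := hgD g hg _ (hr.1 _ (hgS g⁻¹ hginv s hs))
      have e : g * (r * (g⁻¹ * s * g⁻¹⁻¹) * r⁻¹ * (g⁻¹ * s * g⁻¹⁻¹)⁻¹) * g⁻¹ = g * r * g⁻¹ * s * (g * r * g⁻¹)⁻¹ * s⁻¹ := by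
        group
      rwa [e] at h1
    · have h1 := hgE g hg _ (hr.2.1 _ (hgD g⁻¹ hginv d hd))
      have e : g * (r * (g⁻¹ * d * g⁻¹⁻¹) * r⁻¹ * (g⁻¹ * d * g⁻¹⁻¹)⁻¹) * g⁻¹ = g * r * g⁻¹ * d * (g * r * g⁻¹)⁻¹ * d⁻¹ := by
        group
      rwa [e] at h1
    · have h1 := hr.2.2 _ (hgE g⁻¹ hginv e he)
      calc g * r * g⁻¹ * e * (g * r * g⁻¹)⁻¹ = g * (r * (g⁻¹ * e * g⁻¹⁻¹) * r⁻¹) * g⁻¹ := by group
        _ = g * (g⁻¹ * e * g⁻¹⁻¹) * g⁻¹ := by rw [h1]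
        _ = e := by group
  have hRS : R ≤ S := hN R hRp hRN hRnorm
  -- `r ∈ R`
  have hrR : r ∈ R := by
    have hrD' : ∀ d ∈ D, r * d * r⁻¹ ∈ D := by
      intro d hd
      obtain ⟨u, hu, v, hv, e⟩ := hrD d hd
      have h1 := mul_mem (h.cm_mem hu hv) hd
      rwa [← e, inv_mul_cancel_right] at h1
    refine ⟨fun s hs => ?_, fun d hd => ?_, fun e he => ?_⟩
    · obtain ⟨u, hu, v, hv, rfl⟩ := h.mem_S₀.1 hs
      have h1 := hr₂ v hv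
      have h2 := (h.mem_D_iff.1 h1).2 u⁻¹ (mem_sup_left (inv_mem hu))
      have e1 : r * (u * v) * r⁻¹ * (u * v)⁻¹ = (r * u * r⁻¹) * ((r * v * r⁻¹ * v⁻¹) * u⁻¹) := by group
      have e2 : (r * u * r⁻¹) * (u⁻¹ * (r * v * r⁻¹ * v⁻¹)) = (r * u * r⁻¹ * u⁻¹) * (r * v * r⁻¹ * v⁻¹) := by group
      rw [e1, h2, e2]
      exact mul_mem (hr₁ u hu) h1
    · obtain ⟨u, hu, v, hv, e⟩ := hrD d hd
      rw [e]
      exact hcE u hu v hv
    · have h1 : closure {e : G | ∃ u ∈ Q₁, ∃ v ∈ Q₂, e = cm u v} ≤ centralizer {r} := by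
        rw [closure_le]
        rintro _ ⟨u, hu, v, hv, rfl⟩
        have h2 := hrE u hu v hv
        rw [SetLike.mem_coe, mem_centralizer_singleton_iff]
        exact (mul_inv_eq_iff_eq_mul.1 h2).symm
      have h2 := h1 (hEle he)
      rw [mem_centralizer_singleton_iff] at h2
      rw [← h2, mul_inv_cancel_right]
  -- `R ≤ S₀`
  have hRS₀' : r ∈ S₀ := by
    obtain ⟨w, hw, q, hq, e⟩ := h.o₁.act r (hRS hrR) (fun v hv => by
      have h1 := hrR.1 v (mem_sup_left (h.s₁.VQ hv))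
      rw [mem_centralizer_iff]
      intro w hw
      exact ((h.mem_D_iff.1 h1).2 w (mem_sup_right (h.s₂.VQ hw))).symm)
    rw [e]
    exact mul_mem (mem_sup_right (h.s₂.VQ hw)) (mem_sup_left hq)
  intro d hd
  rw [← (h.mem_D_iff.1 hd).2 r hRS₀', mul_inv_cancel_right]

variable {F : Type*} [Field F] [Finite F] {x z y x₂ z₂ y₂ : G → F} {t₁ t₂ : G} {ω₁ ω₂ : F}

/-- **#9675 (1)-(5)**, one natural `SL₂(q)`-module on both sides (`q ≥ 4`): `S₀ = Q₁ Q₂` is a Sylow 2-subgroup of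
`L₃(q)` or `Sp₄(q)`. -/
theorem main (h : Mut P₁ P₂ S Q₁ Q₂ V₁ V₂ a)
    (hN : ∀ R : Subgroup G, IsPGroup 2 R → R ≤ normalizer ((Q₁ ⊔ Q₂ : Subgroup G) : Set G) →
      (∀ g ∈ normalizer ((Q₁ ⊔ Q₂ : Subgroup G) : Set G), ∀ r ∈ R, g * r * g⁻¹ ∈ R) → R ≤ S)
    (hc : ∀ g : G, (∀ s ∈ Q₁ ⊔ Q₂, g * s = s * g) → g ∈ Q₁ ⊔ Q₂)
    (n₁ : NatCo P₁ Q₁ V₁ V₂ x z y t₁ ω₁) (n₂ : NatCo P₂ Q₂ V₂ V₁ x₂ z₂ y₂ t₂ ω₂) :
    ∃ X Y Z : G → F, (∀ v ∈ V₁, X v = x v ∧ Z v = z v) ∧ (∀ w ∈ V₂, Y w = y w) ∧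
      Co Q₁ Q₂ (Q₁ ⊓ Q₂) (CC P₁ Q₁ V₂) X Y Z t₁ ω₁ ∧
      ((CC P₁ Q₁ V₂ = ⊥ ∧ CC P₂ Q₂ V₁ = ⊥ ∧ ∃ ω : F, LThree Q₁ Q₂ (Q₁ ⊓ Q₂) X Y Z t₁ t₂ ω₁ ω) ∨
        ∃ (Z' : G → F) (ω : F), SpFour Q₁ Q₂ (Q₁ ⊓ Q₂) (CC P₁ Q₁ V₂) (CC P₂ Q₂ V₁) X Y Z Z' t₁ t₂ ω₁ ω) := by
  obtain ⟨X, Y, Z, h1, h2, co₁⟩ := h.exists_co n₁
  obtain ⟨X₂, Y₂, Z₂, -, -, co₂⟩ := h.symm.exists_co n₂
  rw [inf_comm] at co₂
  exact ⟨X, Y, Z, h1, h2, co₁, five h.base co₁ co₂ h.C_inf (h.hR hN hc)⟩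

end Mut

end Cfsg.Agent.Omega.FFOne
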