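import Cfsg.Agent.Omega.FFOne.ToClose
import Cfsg.Agent.Omega.NatPair.Mod

/-!
# OMEGA / SQT, node SQ2 = FF-1: `NatCo`, `NatLin` from a natural `SL₂(F)`-module `V / D`

`NatTwo P V D e` : `e : V → F²` with kernel `D` identifies `V / D` with the natural module for `SL₂(F)`, normal in the
group induced by `P` (the fields of `FrameFF.NatOver`); `QuadOver V A e w` : `A` induces the full stabiliser of the vector
`w` in `SL₂(F)` and centralises the preimage of the line of `w` (cf. `NatMod.Quad`).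
-/

set_option autoImplicit false

open Subgroup

namespace Cfsg.Agent.Omega.FFOne

open Cfsg.Agent.Omega.NatPair Cfsg.Agent.Omega.CloseA Cfsg.Agent.Lib.SL2Mat

variable {G : Type*} [Group G]

/-- `V / D` is the natural module `F²` for a normal subgroup `SL₂(F)` of the group induced by `P`. -/
structure NatTwo {F : Type*} [Field F] (P V D : Subgroup G) (e : G → Fin 2 → F) : Prop where
  mul : ∀ v ∈ V, ∀ w ∈ V, e (v * w) = e v + e w
  surj : ∀ x : Fin 2 → F, ∃ v ∈ V, e v = x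
  ker : ∀ v ∈ V, e v = 0 ↔ v ∈ D
  lift : ∀ A : Matrix.SpecialLinearGroup (Fin 2) F, ∃ g ∈ P, ∀ v ∈ V, e (g * v * g⁻¹) = ap A (e v)
  norm : ∀ g ∈ P, ∀ h ∈ P, ∀ A : Matrix.SpecialLinearGroup (Fin 2) F, (∀ v ∈ V, e (h * v * h⁻¹) = ap A (e v)) →
    ∃ B : Matrix.SpecialLinearGroup (Fin 2) F, ∀ v ∈ V, e (g * h * g⁻¹ * v * (g * h * g⁻¹)⁻¹) = ap B (e v)

/-- `A` induces the full stabiliser of `w` in `SL₂(F)` on `V / D` and centralises the preimage of the line of `w`. -/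
structure QuadOver {F : Type*} [Field F] (V A : Subgroup G) (e : G → Fin 2 → F) (w : Fin 2 → F) : Prop where
  ne : w ≠ 0
  lin : ∀ a ∈ A, ∃ B : Matrix.SpecialLinearGroup (Fin 2) F, ap B w = w ∧ ∀ v ∈ V, e (a * v * a⁻¹) = ap B (e v)
  full : ∀ B : Matrix.SpecialLinearGroup (Fin 2) F, ap B w = w → ∃ a ∈ A, ∀ v ∈ V, e (a * v * a⁻¹) = ap B (e v)
  cent : ∀ v ∈ V, (∃ c : F, e v = c • w) → ∀ a ∈ A, v * a = a * v

/-- `⟨A^P⟩ Q` -/
def LL (P Q A : Subgroup G) : Subgroup G := closure {x | ∃ h ∈ P, ∃ w ∈ A, x = h * w * h⁻¹} ⊔ Q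

theorem LL_norm {P Q A : Subgroup G} (hQ : ∀ p ∈ P, ∀ x ∈ Q, p * x * p⁻¹ ∈ Q) :
    ∀ p ∈ P, ∀ l ∈ LL P Q A, p * l * p⁻¹ ∈ LL P Q A := by
  intro p hp l hl
  have h1 : LL P Q A ≤ (LL P Q A).comap (MulAut.conj p).toMonoidHom := by
    conv_lhs => rw [LL]
    refine sup_le ?_ fun q hq => ?_
    · rw [closure_le]
      rintro _ ⟨h, hh, w, hw, rfl⟩
      change p * (h * w * h⁻¹) * p⁻¹ ∈ LL P Q A
      exact mem_sup_left (subset_closure ⟨p * h, mul_mem hp hh, w, hw, by group⟩)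
    · exact mem_sup_right (hQ p hp q hq)
  exact h1 hl

/-- `SL₂(F)` is generated by the lower and the upper transvections -/
theorem mem_of_lo_up {F : Type*} [Field F] (K : Subgroup (Matrix.SpecialLinearGroup (Fin 2) F))
    (h1 : ∀ b, lo b ∈ K) (h2 : ∀ b, up b ∈ K) (A : Matrix.SpecialLinearGroup (Fin 2) F) : A ∈ K := by
  obtain ⟨a, b, c, d, rfl⟩ := exists_up_lo A
  exact mul_mem (mul_mem (mul_mem (h2 _) (h1 _)) (h2 _)) (h1 _)

theorem eq_lo_of_fix {F : Type*} [Field F] {B : Matrix.SpecialLinearGroup (Fin 2) F} (h : ap B ![0, 1] = ![0, 1]) :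
    B = lo (ent B 1 0) := by
  have h0 := congrFun h 0
  have h1 := congrFun h 1
  rw [ap_zero'] at h0
  rw [ap_one'] at h1
  simp only [Matrix.cons_val_zero, Matrix.cons_val_one, mul_one, mul_zero, zero_add] at h0 h1
  have hd := det_eq B
  rw [h0, h1] at hd
  refine ext_ent ?_ ?_ ?_ ?_
  · rw [lo_00]; linear_combination hd
  · rw [lo_01, h0]
  · rw [lo_10]
  · rw [lo_11, h1]

theorem ap_lo_e {F : Type*} [Field F] (b : F) : ap (lo b) ![0, 1] = ![0, 1] := by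
  apply ext2
  · rw [ap_zero']; simp
  · rw [ap_one']; simp

/-- a Sylow subgroup of `G` inside `M S` absorbs 2-subgroups up to conjugation by `M` -/
theorem exists_conj_le {G : Type*} [Group G] [Finite G] (S : Sylow 2 G) {M : Subgroup G}
    (hM : ∀ s ∈ (S : Subgroup G), ∀ m ∈ M, s * m * s⁻¹ ∈ M) {T : Subgroup G} (hT : IsPGroup 2 T)
    (hTM : ∀ x ∈ T, ∃ m ∈ M, ∃ s ∈ (S : Subgroup G), x = m * s) : ∃ m ∈ M, ∀ x ∈ T, m * x * m⁻¹ ∈ (S : Subgroup G) := by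
  let H : Subgroup G :=
    { carrier := {g | ∃ m ∈ M, ∃ s ∈ (S : Subgroup G), g = m * s}
      one_mem' := ⟨1, one_mem _, 1, one_mem _, by simp⟩
      mul_mem' := by
        rintro _ _ ⟨l, hl, s, hs, rfl⟩ ⟨l', hl', s', hs', rfl⟩
        exact ⟨l * (s * l' * s⁻¹), mul_mem hl (hM s hs l' hl'), s * s', mul_mem hs hs', by group⟩
      inv_mem' := by
        rintro _ ⟨l, hl, s, hs, rfl⟩
        refine ⟨s⁻¹ * l⁻¹ * s⁻¹⁻¹, hM s⁻¹ (inv_mem hs) l⁻¹ (inv_mem hl), s⁻¹, inv_mem hs, by group⟩ }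
  have hSH : (S : Subgroup G) ≤ H := fun s hs => ⟨1, one_mem _, s, hs, by simp⟩
  have hTH : T ≤ H := hTM
  let S' : Sylow 2 H := S.subtype hSH
  have hT' : IsPGroup 2 (T.subgroupOf H) := hT.comap_of_injective _ (subtype_injective H)
  obtain ⟨R, hR⟩ := hT'.exists_le_sylow
  obtain ⟨g, hg⟩ := MulAction.exists_smul_eq H R S'
  obtain ⟨m, hm, s, hs, e⟩ := (g : H).2
  -- `g = m s`; use `s⁻¹`-twist
  have key : ∀ x ∈ T, (g : G) * x * (g : G)⁻¹ ∈ (S : Subgroup G) := by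
    intro x hx
    have h1 : (⟨x, hTH hx⟩ : H) ∈ (R : Subgroup H) := hR (mem_subgroupOf.2 hx)
    have h2 : g * ⟨x, hTH hx⟩ * g⁻¹ ∈ ((g • R : Sylow 2 H) : Subgroup H) := by
      rw [Sylow.coe_subgroup_smul, mem_pointwise_smul_iff_inv_smul_mem]
      have e3 : (MulAut.conj g)⁻¹ • (g * ⟨x, hTH hx⟩ * g⁻¹) = ⟨x, hTH hx⟩ := by
        rw [← map_inv, MulAut.smul_def, MulAut.conj_apply]
        group
      rw [e3]
      exact h1
    rw [hg] at h2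
    exact h2
  -- `g = s' m'`
  refine ⟨s⁻¹ * m * s⁻¹⁻¹, hM s⁻¹ (inv_mem hs) m hm, fun x hx => ?_⟩
  have h1 := key x hx
  rw [e] at h1
  have h2 := mul_mem (mul_mem (inv_mem hs) h1) hs
  have e2 : s⁻¹ * (m * s * x * (m * s)⁻¹) * s = s⁻¹ * m * s⁻¹⁻¹ * x * (s⁻¹ * m * s⁻¹⁻¹)⁻¹ := by group
  rwa [e2] at h2

namespace Mut

variable {P₁ P₂ Q₁ Q₂ V₁ V₂ D : Subgroup G} {a : ℕ} {F : Type*} [Field F] {e : G → Fin 2 → F} {w : Fin 2 → F}

/-- every element of `⟨A^P⟩ Q` acts on `V / D` as an element of `SL₂(F)` -/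
theorem LL_lin {S : Subgroup G} (h : Mut P₁ P₂ S Q₁ Q₂ V₁ V₂ a) (n : NatTwo P₁ V₁ D e) (q : QuadOver V₁ V₂ e w) :
    ∀ l ∈ LL P₁ Q₁ V₂, ∃ B : Matrix.SpecialLinearGroup (Fin 2) F, ∀ v ∈ V₁, e (l * v * l⁻¹) = ap B (e v) := by
  have hA : ∀ w ∈ V₂, w ∈ P₁ := fun w hw => h.s₁.SP (h.s₂.QS (h.s₂.VQ hw))
  have hQP : ∀ u ∈ Q₁, u ∈ P₁ := fun u hu => h.s₁.SP (h.s₁.QS hu)
  let K : Subgroup G :=
    { carrier := {g | g ∈ P₁ ∧ ∃ B : Matrix.SpecialLinearGroup (Fin 2) F, ∀ v ∈ V₁, e (g * v * g⁻¹) = ap B (e v)}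
      one_mem' := ⟨one_mem _, 1, fun v _ => by rw [ap_one]; simp⟩
      mul_mem' := by
        rintro g g' ⟨hg, B, hB⟩ ⟨hg', B', hB'⟩
        refine ⟨mul_mem hg hg', B * B', fun v hv => ?_⟩
        have e1 : g * g' * v * (g * g')⁻¹ = g * (g' * v * g'⁻¹) * g⁻¹ := by group
        rw [e1, hB _ (h.s₁.Vn g' hg' v hv), hB' v hv, ap_mul]
      inv_mem' := by
        rintro g ⟨hg, B, hB⟩
        refine ⟨inv_mem hg, B⁻¹, fun v hv => ?_⟩
        have h1 := hB _ (h.s₁.Vn g⁻¹ (inv_mem hg) v hv)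
        have e1 : g * (g⁻¹ * v * g⁻¹⁻¹) * g⁻¹ = v := by group
        rw [e1] at h1
        rw [h1, ap_inv_ap] }
  have hK : LL P₁ Q₁ V₂ ≤ K := by
    refine sup_le ?_ fun u hu => ?_
    · rw [closure_le]
      rintro _ ⟨p, hp, w', hw', rfl⟩
      obtain ⟨B, -, hB⟩ := q.lin w' hw'
      exact ⟨mul_mem (mul_mem hp (hA w' hw')) (inv_mem hp), n.norm p hp w' (hA w' hw') B hB⟩
    · refine ⟨hQP u hu, 1, fun v hv => ?_⟩
      rw [ap_one, h.s₁.com u hu v hv, mul_inv_cancel_right]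
  exact fun l hl => (hK hl).2

theorem LL_le {S : Subgroup G} (h : Mut P₁ P₂ S Q₁ Q₂ V₁ V₂ a) : LL P₁ Q₁ V₂ ≤ P₁ := by
  refine sup_le ?_ fun u hu => h.s₁.SP (h.s₁.QS hu)
  rw [closure_le]
  rintro _ ⟨p, hp, w', hw', rfl⟩
  exact mul_mem (mul_mem hp (h.s₁.SP (h.s₂.QS (h.s₂.VQ hw')))) (inv_mem hp)

theorem V_le_LL {S : Subgroup G} (_ : Mut P₁ P₂ S Q₁ Q₂ V₁ V₂ a) : V₂ ≤ LL P₁ Q₁ V₂ := fun w hw =>
  mem_sup_left (subset_closure ⟨1, one_mem _, w, hw, by simp⟩)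

/-- `L = ⟨A^P⟩ Q` centralises `C_Q(⟨A^P⟩)` -/
theorem LL_cen {S : Subgroup G} (h : Mut P₁ P₂ S Q₁ Q₂ V₁ V₂ a) : ∀ l ∈ LL P₁ Q₁ V₂, ∀ c ∈ CC P₁ Q₁ V₂, l * c = c * l := by
  intro l hl c hc
  have h1 : LL P₁ Q₁ V₂ ≤ centralizer ({c} : Set G) := by
    refine sup_le ?_ fun u hu => ?_
    · rw [closure_le]
      rintro _ ⟨p, hp, w', hw', rfl⟩
      rw [SetLike.mem_coe, mem_centralizer_singleton_iff]
      exact ((mem_CC.1 hc).2 p hp w' hw').symm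
    · rw [mem_centralizer_singleton_iff]
      exact h.comm₁ hu (mem_CC.1 hc).1
  exact mem_centralizer_singleton_iff.1 (h1 hl)

/-- `SL₂(F)` is induced by `⟨A^P⟩ Q` -/
theorem LL_full {S : Subgroup G} (h : Mut P₁ P₂ S Q₁ Q₂ V₁ V₂ a) (n : NatTwo P₁ V₁ D e) (q : QuadOver V₁ V₂ e w) :
    ∀ B : Matrix.SpecialLinearGroup (Fin 2) F, ∃ l ∈ LL P₁ Q₁ V₂, ∀ v ∈ V₁, e (l * v * l⁻¹) = ap B (e v) := by
  let K : Subgroup (Matrix.SpecialLinearGroup (Fin 2) F) :=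
    { carrier := {B | ∃ l ∈ LL P₁ Q₁ V₂, ∀ v ∈ V₁, e (l * v * l⁻¹) = ap B (e v)}
      one_mem' := ⟨1, one_mem _, fun v _ => by rw [ap_one]; simp⟩
      mul_mem' := by
        rintro B B' ⟨g, hg, hB⟩ ⟨g', hg', hB'⟩
        refine ⟨g * g', mul_mem hg hg', fun v hv => ?_⟩
        have e1 : g * g' * v * (g * g')⁻¹ = g * (g' * v * g'⁻¹) * g⁻¹ := by group
        rw [e1, hB _ (h.s₁.Vn g' (h.LL_le hg') v hv), hB' v hv, ap_mul]
      inv_mem' := by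
        rintro B ⟨g, hg, hB⟩
        refine ⟨g⁻¹, inv_mem hg, fun v hv => ?_⟩
        have h1 := hB _ (h.s₁.Vn g⁻¹ (inv_mem (h.LL_le hg)) v hv)
        have e1 : g * (g⁻¹ * v * g⁻¹⁻¹) * g⁻¹ = v := by group
        rw [e1] at h1
        rw [h1, ap_inv_ap] }
  -- `K` contains the conjugates of the stabiliser of `w`
  have hK : ∀ C B : Matrix.SpecialLinearGroup (Fin 2) F, ap B w = w → C * B * C⁻¹ ∈ K := by
    intro C B hB
    obtain ⟨g, hg, hg'⟩ := n.lift C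
    obtain ⟨w', hw', hw''⟩ := q.full B hB
    have hgi : ∀ v ∈ V₁, e (g⁻¹ * v * g⁻¹⁻¹) = ap C⁻¹ (e v) := by
      intro v hv
      have h1 := hg' _ (h.s₁.Vn g⁻¹ (inv_mem hg) v hv)
      have e1 : g * (g⁻¹ * v * g⁻¹⁻¹) * g⁻¹ = v := by group
      rw [e1] at h1
      rw [h1, ap_inv_ap]
    refine ⟨g * w' * g⁻¹, mem_sup_left (subset_closure ⟨g, hg, w', hw', rfl⟩), fun v hv => ?_⟩
    have hv1 := h.s₁.Vn g⁻¹ (inv_mem hg) v hv
    have hv2 := h.s₁.Vn w' (h.s₁.SP (h.s₂.QS (h.s₂.VQ hw'))) _ hv1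
    have e1 : g * w' * g⁻¹ * v * (g * w' * g⁻¹)⁻¹ = g * (w' * (g⁻¹ * v * g⁻¹⁻¹) * w'⁻¹) * g⁻¹ := by group
    rw [e1, hg' _ hv2, hw'' _ hv1, hgi v hv, ap_mul, ap_mul]
  -- `lo`, `up`
  have he0 : (![0, 1] : Fin 2 → F) ≠ 0 := fun h => by simpa using congrFun h 1
  have he1 : (![1, 0] : Fin 2 → F) ≠ 0 := fun h => by simpa using congrFun h 0
  have hlo : ∀ b, lo b ∈ K := by
    intro b
    obtain ⟨C, hC⟩ := exists_ap q.ne he0
    have h1 := hK C (C⁻¹ * lo b * C) (by rw [ap_mul, hC, ap_mul, ap_lo_e, ← hC, ap_inv_ap])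
    have e1 : C * (C⁻¹ * lo b * C) * C⁻¹ = lo b := by group
    rwa [e1] at h1
  have hup : ∀ b, up b ∈ K := by
    intro b
    obtain ⟨C, hC⟩ := exists_ap q.ne he1
    have h1 := hK C (C⁻¹ * up b * C) (by rw [ap_mul, hC, ap_mul, ap_up_e, ← hC, ap_inv_ap])
    have e1 : C * (C⁻¹ * up b * C) * C⁻¹ = up b := by group
    rwa [e1] at h1
  exact fun B => mem_of_lo_up K hlo hup B

/-- **`NatCo` and `NatLin` from the natural module** -/
theorem exists_nat [Finite G] [Finite F] {S : Sylow 2 G} (h : Mut P₁ P₂ S Q₁ Q₂ V₁ V₂ a) (n : NatTwo P₁ V₁ D e)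
    (q : QuadOver V₁ V₂ e w) (DV : D ≤ V₁) (Dn : ∀ p ∈ P₁, ∀ d ∈ D, p * d * p⁻¹ ∈ D)
    (hF : ∃ c : F, c ≠ 0 ∧ c ≠ 1) :
    ∃ (x z y : G → F) (t : G) (ω : F) (L : Subgroup G), NatCo P₁ Q₁ V₁ V₂ x z y t ω ∧ NatLin P₁ Q₁ V₁ V₂ L x z := by
  classical
  have he0 : (![0, 1] : Fin 2 → F) ≠ 0 := fun h => by simpa using congrFun h 1
  obtain ⟨C, hC⟩ := exists_ap q.ne he0
  have hA : ∀ w ∈ V₂, w ∈ P₁ := fun w hw => h.s₁.SP (h.s₂.QS (h.s₂.VQ hw))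
  have DA : ∀ d ∈ D, ∀ w ∈ V₂, d * w = w * d := fun d hd w' hw' =>
    q.cent d (DV hd) ⟨0, by rw [(n.ker d (DV hd)).2 hd, zero_smul]⟩ w' hw'
  -- coordinates
  set e' : G → Fin 2 → F := fun v => ap C (e v) with he'
  have hmul : ∀ u ∈ V₁, ∀ v ∈ V₁, e' (u * v) = e' u + e' v := fun u hu v hv => by
    simp only [he']; rw [n.mul u hu v hv, ap_add]
  have hact : ∀ g : G, ∀ B : Matrix.SpecialLinearGroup (Fin 2) F, (∀ v ∈ V₁, e (g * v * g⁻¹) = ap B (e v)) →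
      ∀ v ∈ V₁, e' (g * v * g⁻¹) = ap (C * B * C⁻¹) (e' v) := by
    intro g B hB v hv
    simp only [he']
    rw [hB v hv, ap_mul, ap_mul, ap_inv_ap]
  have hfull : ∀ B : Matrix.SpecialLinearGroup (Fin 2) F, ∃ l ∈ LL P₁ Q₁ V₂, ∀ v ∈ V₁, e' (l * v * l⁻¹) = ap B (e' v) := by
    intro B
    obtain ⟨l, hl, hl'⟩ := h.LL_full n q (C⁻¹ * B * C)
    refine ⟨l, hl, fun v hv => ?_⟩
    have h1 := hact l _ hl' v hv
    have e1 : C * (C⁻¹ * B * C) * C⁻¹ = B := by group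
    rwa [e1] at h1
  have hap0 : ∀ B : Matrix.SpecialLinearGroup (Fin 2) F, ap B 0 = 0 := fun B => by
    apply ext2
    · rw [ap_zero']; simp
    · rw [ap_one']; simp
  have hker : ∀ v ∈ V₁, e' v = 0 ↔ v ∈ D := by
    intro v hv
    rw [← n.ker v hv]
    constructor
    · intro h1
      have h2 : ap C⁻¹ (e' v) = e v := by simp only [he']; rw [ap_inv_ap]
      rw [← h2, h1, hap0]
    · intro h1
      simp only [he']
      rw [h1, hap0]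
  have hsurj : ∀ u : Fin 2 → F, ∃ v ∈ V₁, e' v = u := by
    intro u
    obtain ⟨v, hv, hv'⟩ := n.surj (ap C⁻¹ u)
    exact ⟨v, hv, by simp only [he']; rw [hv', ap_ap_inv]⟩
  have hxm : ∀ u ∈ V₁, ∀ v ∈ V₁, e' (u * v) 0 = e' u 0 + e' v 0 := fun u hu v hv => by rw [hmul u hu v hv]; rfl
  -- the action of `A`
  have hAact : ∀ w' ∈ V₂, ∃ b : F, ∀ v ∈ V₁, e' (w' * v * w'⁻¹) = ap (lo b) (e' v) := by
    intro w' hw'
    obtain ⟨B, hB, hB'⟩ := q.lin w' hw'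
    have h1 : ap (C * B * C⁻¹) ![0, 1] = ![0, 1] := by rw [← hC, ap_mul, ap_mul, ap_inv_ap, hB]
    refine ⟨ent (C * B * C⁻¹) 1 0, fun v hv => ?_⟩
    rw [hact w' B hB' v hv, ← eq_lo_of_fix h1]
  choose! y hy using hAact
  have hyz : ∀ w' ∈ V₂, ∀ v ∈ V₁, e' (w' * v * w'⁻¹) 1 = e' v 1 + y w' * e' v 0 := by
    intro w' hw' v hv
    rw [hy w' hw' v hv, ap_one', lo_10, lo_11]; ring
  have hyx : ∀ w' ∈ V₂, ∀ v ∈ V₁, e' (w' * v * w'⁻¹) 0 = e' v 0 := by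
    intro w' hw' v hv
    rw [hy w' hw' v hv, ap_zero', lo_00, lo_01]; ring
  have hy_surj : ∀ b, ∃ w' ∈ V₂, y w' = b := by
    intro b
    obtain ⟨w', hw', hw''⟩ := q.full (C⁻¹ * lo b * C) (by rw [ap_mul, hC, ap_mul, ap_lo_e, ← hC, ap_inv_ap])
    refine ⟨w', hw', ?_⟩
    obtain ⟨v, hv, hv'⟩ := hsurj ![1, 0]
    have h1 := hact w' _ hw'' v hv
    have e1 : C * (C⁻¹ * lo b * C) * C⁻¹ = lo b := by group
    rw [e1, hy w' hw' v hv, hv'] at h1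
    have h2 := congrFun h1 1
    rw [ap_one', ap_one'] at h2
    simpa using h2
  -- `C_{V₁}(V₂)`
  have hcent : ∀ v ∈ V₁, e' v 0 = 0 → ∀ w' ∈ V₂, v * w' = w' * v := by
    intro v hv h0
    refine q.cent v hv ⟨e' v 1, ?_⟩
    have h1 : e v = ap C⁻¹ (e' v) := by simp only [he']; rw [ap_inv_ap]
    have h2 : e' v = e' v 1 • ![0, 1] := by
      apply ext2
      · rw [h0]; simp
      · simp
    rw [h1]
    nth_rewrite 1 [h2]
    rw [ap_smul, ← hC, ap_inv_ap]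
  have hF' : a = Nat.card F := by
    rw [← h.o₁.idx]
    refine relIndex_ker' (f := fun v => e' v 0) hxm (fun b => ?_) fun v hv => ?_
    · obtain ⟨v, hv, hv'⟩ := hsurj ![b, 0]
      exact ⟨v, hv, by rw [hv']; rfl⟩
    · rw [mem_inf_cen]
      constructor
      · rintro ⟨-, hc⟩
        obtain ⟨w', hw', hyw⟩ := hy_surj 1
        have h1 := hyz w' hw' v hv
        have h2 : w' * v * w'⁻¹ = v := by rw [← hc w' hw', mul_inv_cancel_right]
        rw [h2, hyw, one_mul] at h1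
        exact left_eq_add.1 h1
      · intro h0
        exact ⟨hv, hcent v hv h0⟩
  -- elements of `V₂` with `y = 0`
  have hym : ∀ u ∈ V₂, ∀ w' ∈ V₂, y (u * w') = y u + y w' := by
    intro u hu w' hw'
    obtain ⟨v, hv, hv'⟩ := hsurj ![1, 0]
    have h1 := hyz (u * w') (mul_mem hu hw') v hv
    have hwv : w' * v * w'⁻¹ ∈ V₁ := h.s₁.Vn w' (hA w' hw') v hv
    have h2 := hyz u hu _ hwv
    rw [hyz w' hw' v hv, hyx w' hw' v hv] at h2
    have e1 : u * w' * v * (u * w')⁻¹ = u * (w' * v * w'⁻¹) * u⁻¹ := by group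
    rw [e1, h2, hv'] at h1
    simp only [Matrix.cons_val_zero, Matrix.cons_val_one, mul_one, zero_add] at h1
    linear_combination -h1
  have hy0 : ∀ w' ∈ V₂, y w' = 0 → w' ∈ Q₁ := by
    intro w' hw' h0
    let K : Subgroup G :=
      { carrier := {u | u ∈ V₂ ∧ y u = 0}
        one_mem' := ⟨one_mem _, add_one' hym⟩
        mul_mem' := fun {a b} ha hb => ⟨mul_mem ha.1 hb.1, by rw [hym _ ha.1 _ hb.1, ha.2, hb.2, add_zero]⟩
        inv_mem' := fun {a} ha => ⟨inv_mem ha.1, by rw [add_inv' hym ha.1, ha.2, neg_zero]⟩ }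
    have hKQ : K ≤ V₂ := fun u hu => hu.1
    have hDK : V₂ ⊓ centralizer (V₁ : Set G) ≤ K := by
      intro u hu
      rw [mem_inf_cen] at hu
      refine ⟨hu.1, ?_⟩
      obtain ⟨v, hv, hv'⟩ := hsurj ![1, 0]
      have h1 := hyz u hu.1 v hv
      have h2 : u * v * u⁻¹ = v := by rw [hu.2 v hv, mul_inv_cancel_right]
      rw [h2, hv'] at h1
      simpa using h1.symm
    have h1 : K.relIndex V₂ = Nat.card F := relIndex_ker' hym hy_surj fun u hu => ⟨fun h => h.2, fun h => ⟨hu, h⟩⟩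
    have h2 := relIndex_mul_relIndex _ _ _ hDK hKQ
    rw [h1, h.o₂.idx, ← hF'] at h2
    have h4 : (V₂ ⊓ centralizer (V₁ : Set G)).relIndex K = 1 := by
      have := h.a_pos
      exact Nat.eq_of_mul_eq_mul_right this (by rw [h2, one_mul])
    have h5 : K ≤ V₂ ⊓ centralizer (V₁ : Set G) := relIndex_eq_one.1 h4
    have h6 := h5 ⟨hw', h0⟩
    rw [mem_inf_cen] at h6
    exact h.s₁.cen w' (h.s₂.QS (h.s₂.VQ hw')) h6.2
  -- the kernel on `V / D`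
  let K₀ : Subgroup G :=
    { carrier := {l | l ∈ LL P₁ Q₁ V₂ ∧ ∀ v ∈ V₁, l * v * l⁻¹ * v⁻¹ ∈ D}
      one_mem' := ⟨one_mem _, fun v _ => by simp⟩
      mul_mem' := by
        rintro l l' ⟨hl, hl1⟩ ⟨hl', hl1'⟩
        refine ⟨mul_mem hl hl', fun v hv => ?_⟩
        have h1 := mul_mem (hl1 _ (h.s₁.Vn l' (h.LL_le hl') v hv)) (hl1' v hv)
        have e1 : l * (l' * v * l'⁻¹) * l⁻¹ * (l' * v * l'⁻¹)⁻¹ * (l' * v * l'⁻¹ * v⁻¹) = l * l' * v * (l * l')⁻¹ * v⁻¹ := by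
          group
        rwa [e1] at h1
      inv_mem' := by
        rintro l ⟨hl, hl1⟩
        refine ⟨inv_mem hl, fun v hv => ?_⟩
        have h1 := inv_mem (hl1 _ (h.s₁.Vn l⁻¹ (inv_mem (h.LL_le hl)) v hv))
        have e1 : (l * (l⁻¹ * v * l⁻¹⁻¹) * l⁻¹ * (l⁻¹ * v * l⁻¹⁻¹)⁻¹)⁻¹ = l⁻¹ * v * l⁻¹⁻¹ * v⁻¹ := by group
        rwa [e1] at h1 }
  have hK₀n : ∀ s ∈ (S : Subgroup G), ∀ m ∈ K₀, s * m * s⁻¹ ∈ K₀ := by
    rintro s hs m ⟨hm, hm1⟩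
    refine ⟨LL_norm h.s₁.Qn s (h.s₁.SP hs) m hm, fun v hv => ?_⟩
    have h1 := Dn s (h.s₁.SP hs) _ (hm1 _ (h.s₁.Vn s⁻¹ (inv_mem (h.s₁.SP hs)) v hv))
    have e1 : s * (m * (s⁻¹ * v * s⁻¹⁻¹) * m⁻¹ * (s⁻¹ * v * s⁻¹⁻¹)⁻¹) * s⁻¹ = s * m * s⁻¹ * v * (s * m * s⁻¹)⁻¹ * v⁻¹ := by
      group
    rwa [e1] at h1
  have hK₀S : ∀ s ∈ (S : Subgroup G), s ∈ K₀ → s ∈ Q₁ := by
    rintro s hs ⟨hsL, hsD⟩
    obtain ⟨w', hw', q', hq', rfl⟩ := h.o₁.act s hs fun v hv => by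
      rw [mem_centralizer_iff]
      exact fun w' hw' => (DA _ (hsD v hv) w' hw').symm
    refine mul_mem (hy0 w' hw' ?_) hq'
    obtain ⟨v, hv, hv'⟩ := hsurj ![1, 0]
    have h1 := hsD v hv
    have h2 : w' * q' * v * (w' * q')⁻¹ = w' * v * w'⁻¹ := by
      calc w' * q' * v * (w' * q')⁻¹ = w' * (q' * v) * q'⁻¹ * w'⁻¹ := by group
        _ = w' * (v * q') * q'⁻¹ * w'⁻¹ := by rw [h.s₁.com q' hq' v hv]
        _ = _ := by group
    rw [h2] at h1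
    have hwv : w' * v * w'⁻¹ ∈ V₁ := h.s₁.Vn w' (hA w' hw') v hv
    have h3 := (hker _ (mul_mem hwv (inv_mem hv))).2 h1
    have h4 : e' (w' * v * w'⁻¹) = e' v := by
      have h5 := hmul _ (mul_mem hwv (inv_mem hv)) v hv
      rw [inv_mul_cancel_right, h3, zero_add] at h5
      exact h5
    have h5 := hyz w' hw' v hv
    rw [h4, hv'] at h5
    simpa using h5.symm
  -- the torus
  obtain ⟨c, hc0, hc1⟩ := hF
  obtain ⟨g, hg⟩ := IsCyclic.exists_generator (α := Fˣ)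
  set ω : F := (g : F) with hω
  have hω0 : ω ≠ 0 := g.ne_zero
  have hgen : ∀ b : F, b ≠ 0 → ∃ m : ℕ, b = ω ^ m := by
    intro b hb
    have h1 := hg (Units.mk0 b hb)
    rw [← mem_powers_iff_mem_zpowers] at h1
    obtain ⟨m, hm⟩ := h1
    refine ⟨m, ?_⟩
    have h2 := congrArg Units.val hm
    rw [Units.val_pow_eq_pow_val, Units.val_mk0] at h2
    exact h2.symm
  have hω1 : ω ≠ 1 := by
    intro h1
    obtain ⟨m, hm⟩ := hgen c hc0
    exact hc1 (by rw [hm, h1, one_pow])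
  obtain ⟨t, ht, htact⟩ := hfull (dg ω⁻¹ (inv_ne_zero hω0))
  have hT : IsPGroup 2 (V₂.map (MulAut.conj t).toMonoidHom) :=
    (S.2.to_le (h.s₂.VQ.trans h.s₂.QS)).map _
  -- `t w t⁻¹ = k w'`, `k ∈ K₀`
  have hdecT : ∀ w' ∈ V₂, ∃ k ∈ K₀, ∃ w'' ∈ V₂, t * w' * t⁻¹ = k * w'' := by
    intro w' hw'
    obtain ⟨w'', hw'', hyw⟩ := hy_surj (ω ^ 2 * y w')
    refine ⟨t * w' * t⁻¹ * w''⁻¹, ⟨?_, fun v hv => ?_⟩, w'', hw'', by group⟩
    · exact mul_mem (LL_norm h.s₁.Qn t (h.LL_le ht) w' (h.V_le_LL hw')) (inv_mem (h.V_le_LL hw''))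
    · have hgP : t * w' * t⁻¹ * w''⁻¹ ∈ P₁ := mul_mem (mul_mem (mul_mem (h.LL_le ht) (hA w' hw'))
        (inv_mem (h.LL_le ht))) (inv_mem (hA w'' hw''))
      have hgv := h.s₁.Vn _ hgP v hv
      rw [← hker _ (mul_mem hgv (inv_mem hv))]
      -- action of `t⁻¹`, `w''⁻¹`
      have hv1 := h.s₁.Vn w''⁻¹ (inv_mem (hA w'' hw'')) v hv
      have hv2 := h.s₁.Vn t⁻¹ (inv_mem (h.LL_le ht)) _ hv1
      have hv3 := h.s₁.Vn w' (hA w' hw') _ hv2
      have a1 := hy w'' hw'' _ hv1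
      have e1 : w'' * (w''⁻¹ * v * w''⁻¹⁻¹) * w''⁻¹ = v := by group
      rw [e1] at a1
      have a2 := htact _ hv2
      have e2 : t * (t⁻¹ * (w''⁻¹ * v * w''⁻¹⁻¹) * t⁻¹⁻¹) * t⁻¹ = w''⁻¹ * v * w''⁻¹⁻¹ := by group
      rw [e2] at a2
      have a3 := hy w' hw' _ hv2
      have a4 := htact _ hv3
      have e3 : t * (w' * (t⁻¹ * (w''⁻¹ * v * w''⁻¹⁻¹) * t⁻¹⁻¹) * w'⁻¹) * t⁻¹ =
          t * w' * t⁻¹ * w''⁻¹ * v * (t * w' * t⁻¹ * w''⁻¹)⁻¹ := by group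
      rw [e3] at a4
      generalize e' (t⁻¹ * (w''⁻¹ * v * w''⁻¹⁻¹) * t⁻¹⁻¹) = u at a2 a3
      have h5 : e' (t * w' * t⁻¹ * w''⁻¹ * v * (t * w' * t⁻¹ * w''⁻¹)⁻¹) = e' v := by
        rw [a4, a3, a1, a2, ← ap_mul, ← ap_mul, hyw]
        congr 1
        refine ext_ent ?_ ?_ ?_ ?_ <;> simp only [ent_mul, dg_00, dg_01, dg_10, dg_11, lo_00, lo_01, lo_10, lo_11] <;>
          field_simp <;> ring
      have h6 := hmul _ (mul_mem hgv (inv_mem hv)) v hv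
      rw [inv_mul_cancel_right, h5] at h6
      exact left_eq_add.1 (h6.trans (add_comm _ _))
  obtain ⟨m, hm, hmS⟩ := exists_conj_le S hK₀n hT (by
    rintro _ ⟨w', hw', rfl⟩
    obtain ⟨k, hk, w'', hw'', e1⟩ := hdecT w' hw'
    exact ⟨k, hk, w'', h.s₂.QS (h.s₂.VQ hw''), e1⟩)
  have hmact : ∀ v ∈ V₁, e' (m * v * m⁻¹) = e' v := by
    intro v hv
    have hmv := h.s₁.Vn m (h.LL_le hm.1) v hv
    have h3 := (hker _ (mul_mem hmv (inv_mem hv))).2 (hm.2 v hv)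
    have h5 := hmul _ (mul_mem hmv (inv_mem hv)) v hv
    rw [inv_mul_cancel_right, h3, zero_add] at h5
    exact h5
  have htL : m * t ∈ LL P₁ Q₁ V₂ := mul_mem hm.1 ht
  have hmt : ∀ v ∈ V₁, e' (m * t * v * (m * t)⁻¹) = ap (dg ω⁻¹ (inv_ne_zero hω0)) (e' v) := by
    intro v hv
    have e1 : m * t * v * (m * t)⁻¹ = m * (t * v * t⁻¹) * m⁻¹ := by group
    rw [e1, hmact _ (h.s₁.Vn t (h.LL_le ht) v hv), htact v hv]
  refine ⟨fun v => e' v 0, fun v => e' v 1, y, m * t, ω, LL P₁ Q₁ V₂,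
    { x_mul := hxm
      z_mul := fun u hu v hv => by rw [hmul u hu v hv]; rfl
      surj := fun b c => by
        obtain ⟨v, hv, hv'⟩ := hsurj ![b, c]
        exact ⟨v, hv, by rw [hv']; rfl, by rw [hv']; rfl⟩
      ker := fun v hv h0 h1 p hp w' hw' => by
        have hvD : v ∈ D := (hker v hv).1 (ext2 h0 h1)
        have h2 := DA _ (Dn p⁻¹ (inv_mem hp) v hvD) w' hw'
        calc v * (p * w' * p⁻¹) = p * (p⁻¹ * v * p⁻¹⁻¹ * w') * p⁻¹ := by group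
          _ = p * (w' * (p⁻¹ * v * p⁻¹⁻¹)) * p⁻¹ := by rw [h2]
          _ = _ := by group
      ker' := fun v hv hc => by
        have hvC : v ∈ CC P₁ Q₁ V₂ := mem_CC.2 ⟨h.s₁.VQ hv, hc⟩
        obtain ⟨l, hl, hl'⟩ := hfull (lo 1)
        obtain ⟨r, hr, hr'⟩ := hfull (up 1)
        have h1 := hl' v hv
        rw [h.LL_cen l hl v hvC, mul_inv_cancel_right] at h1
        have h2 := hr' v hv
        rw [h.LL_cen r hr v hvC, mul_inv_cancel_right] at h2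
        have h3 := congrFun h1 1
        have h4 := congrFun h2 0
        rw [ap_one', lo_10, lo_11, one_mul, one_mul] at h3
        rw [ap_zero', up_00, up_01, one_mul, one_mul] at h4
        exact ⟨right_eq_add.1 h3, left_eq_add.1 h4⟩
      yx := hyx
      yz := hyz
      y_surj := hy_surj
      fix := hcent
      tP := h.LL_le htL
      tA := fun w' hw' => by
        obtain ⟨k, hk, w'', hw'', e1⟩ := hdecT w' hw'
        have h1 := hmS _ ⟨w', hw', rfl⟩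
        have e2 : m * ((MulAut.conj t).toMonoidHom w') * m⁻¹ = m * k * (w'' * m⁻¹ * w''⁻¹) * w'' := by
          have : (MulAut.conj t).toMonoidHom w' = t * w' * t⁻¹ := rfl
          rw [this, e1]; group
        have hw''S : w'' ∈ (S : Subgroup G) := h.s₂.QS (h.s₂.VQ hw'')
        have h3 : m * k * (w'' * m⁻¹ * w''⁻¹) ∈ K₀ := mul_mem (mul_mem hm hk) (hK₀n w'' hw''S _ (inv_mem hm))
        rw [e2] at h1
        have h4 : m * k * (w'' * m⁻¹ * w''⁻¹) ∈ (S : Subgroup G) := ((S : Subgroup G).mul_mem_cancel_right hw''S).1 h1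
        have h5 := hK₀S _ h4 h3
        refine ⟨w'', hw'', w''⁻¹ * (m * k * (w'' * m⁻¹ * w''⁻¹)) * w''⁻¹⁻¹,
          h.s₁.Qn w''⁻¹ (inv_mem (hA w'' hw'')) _ h5, ?_⟩
        have e3 : m * t * w' * (m * t)⁻¹ = m * (t * w' * t⁻¹) * m⁻¹ := by group
        rw [e3, e1]; group
      tC := fun c hc => by rw [h.LL_cen _ htL c hc, mul_inv_cancel_right]
      tx := fun v hv => by
        rw [hmt v hv, ap_zero', dg_00, dg_01]; ring
      tz := fun v hv => by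
        rw [hmt v hv, ap_one', dg_10, dg_11, inv_inv]; ring
      gen := hgen
      ω0 := hω0
      ω1 := hω1 },
    { AL := h.V_le_LL
      QL := le_sup_right
      LP := h.LL_le
      Ln := LL_norm h.s₁.Qn
      lin := fun l hl => by
        obtain ⟨B, hB⟩ := h.LL_lin n q l hl
        refine ⟨_, _, _, _, det_eq (C * B * C⁻¹), fun v hv => ?_⟩
        rw [hact l B hB v hv]
        exact ⟨rfl, rfl⟩
      all := fun b c hbc => by
        by_cases hb : b = 0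
        · have hc : c ≠ 0 := hbc.resolve_left (fun h => h hb)
          obtain ⟨l, hl, hl'⟩ := hfull (Cfsg.Agent.Lib.SL2Mat.mk b c (-c⁻¹) 0 (by field_simp; ring))
          refine ⟨l, hl, fun v hv => ?_⟩
          rw [hl' v hv, ap_zero', mk_00, mk_01]
        · obtain ⟨l, hl, hl'⟩ := hfull (Cfsg.Agent.Lib.SL2Mat.mk b c 0 b⁻¹ (by field_simp; ring))
          refine ⟨l, hl, fun v hv => ?_⟩
          rw [hl' v hv, ap_zero', mk_00, mk_01] }⟩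

/-- `a = |F|` -/
theorem card_field [Finite G] {S : Subgroup G} (h : Mut P₁ P₂ S Q₁ Q₂ V₁ V₂ a) (n : NatTwo P₁ V₁ D e)
    (q : QuadOver V₁ V₂ e w) : a = Nat.card F := by
  have hdm : ∀ u ∈ V₁, ∀ v ∈ V₁, dt w (e (u * v)) = dt w (e u) + dt w (e v) := fun u hu v hv => by
    rw [n.mul u hu v hv, dt_add]
  rw [← h.o₁.idx]
  refine relIndex_ker' (f := fun v => dt w (e v)) hdm (fun b => ?_) fun v hv => ?_
  · obtain ⟨x, hx⟩ : ∃ x : Fin 2 → F, dt w x = b := by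
      by_cases h0 : w 0 = 0
      · have h1 : w 1 ≠ 0 := fun h1 => q.ne (ext2 h0 h1)
        exact ⟨![-b / w 1, 0], by simp [dt, h0]; field_simp⟩
      · exact ⟨![0, b / w 0], by simp [dt]; field_simp⟩
    obtain ⟨v, hv, hv'⟩ := n.surj x
    exact ⟨v, hv, by rw [hv']; exact hx⟩
  · rw [mem_inf_cen]
    constructor
    · rintro ⟨-, hc⟩
      -- a transvection `x ↦ x + dt w x • w`
      obtain ⟨C, hC⟩ := exists_ap_e q.ne
      obtain ⟨w', hw', hw''⟩ := q.full (C * up 1 * C⁻¹) (by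
        rw [ap_mul, ap_mul, ← hC, ap_inv_ap, ap_up_e])
      have h1 := hw'' v hv
      have h2 : w' * v * w'⁻¹ = v := by rw [← hc w' hw', mul_inv_cancel_right]
      rw [h2, ap_mul, ap_mul] at h1
      have h3 : ap C⁻¹ (e v) = ap (up 1) (ap C⁻¹ (e v)) := by
        conv_lhs => rw [h1, ap_inv_ap]
      have h4 := congrFun h3 0
      rw [ap_zero' (up 1), up_00, up_01, one_mul, one_mul] at h4
      have h5 : ap C⁻¹ (e v) 1 = 0 := left_eq_add.1 h4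
      have h6 : e v = ap C⁻¹ (e v) 0 • w := by
        have h7 : ap C⁻¹ (e v) = ap C⁻¹ (e v) 0 • ![1, 0] := by
          apply ext2
          · simp
          · rw [h5]; simp
        calc e v = ap C (ap C⁻¹ (e v)) := (ap_ap_inv _ _).symm
          _ = ap C (ap C⁻¹ (e v) 0 • ![1, 0]) := by rw [← h7]
          _ = _ := by rw [ap_smul, hC]
      rw [h6, dt_smul]
      simp [dt, mul_comm]
    · intro h0
      exact ⟨hv, q.cent v hv (exists_smul_of_dt q.ne h0)⟩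

end Mut

/-! ### Change of the field -/

section field

variable {F F' : Type*} [Field F] [Field F'] (σ : F ≃+* F')

/-- image of a matrix -/
def mapSL (A : Matrix.SpecialLinearGroup (Fin 2) F) : Matrix.SpecialLinearGroup (Fin 2) F' :=
  Cfsg.Agent.Lib.SL2Mat.mk (σ (ent A 0 0)) (σ (ent A 0 1)) (σ (ent A 1 0)) (σ (ent A 1 1)) (by
    rw [← map_mul, ← map_mul, ← map_sub, det_eq, map_one])

theorem ap_mapSL (A : Matrix.SpecialLinearGroup (Fin 2) F) (x : Fin 2 → F) :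
    ap (mapSL σ A) (fun i => σ (x i)) = fun i => σ (ap A x i) := by
  apply ext2
  · rw [ap_zero', ap_zero', mapSL, mk_00, mk_01, map_add, map_mul, map_mul]
  · rw [ap_one', ap_one', mapSL, mk_10, mk_11, map_add, map_mul, map_mul]

theorem mapSL_symm (A : Matrix.SpecialLinearGroup (Fin 2) F') : mapSL σ (mapSL σ.symm A) = A := by
  refine ext_ent ?_ ?_ ?_ ?_ <;> simp [mapSL]

variable {P V D A : Subgroup G} {e : G → Fin 2 → F} {w : Fin 2 → F}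

theorem NatTwo.map (n : NatTwo P V D e) : NatTwo P V D (fun g i => σ (e g i)) where
  mul := fun v hv w hw => by
    funext i
    rw [n.mul v hv w hw, Pi.add_apply, Pi.add_apply, map_add]
  surj := fun x => by
    obtain ⟨v, hv, hv'⟩ := n.surj (fun i => σ.symm (x i))
    exact ⟨v, hv, by funext i; rw [hv']; simp⟩
  ker := fun v hv => by
    rw [← n.ker v hv]
    constructor
    · intro h
      funext i
      have := congrFun h i
      simpa using this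
    · intro h
      funext i
      simp [h]
  lift := fun A => by
    obtain ⟨g, hg, hg'⟩ := n.lift (mapSL σ.symm A)
    refine ⟨g, hg, fun v hv => ?_⟩
    have h1 := hg' v hv
    have h2 : (fun i => σ (e (g * v * g⁻¹) i)) = ap A (fun i => σ (e v i)) := by
      rw [h1, ← ap_mapSL, mapSL_symm]
    exact h2
  norm := fun g hg h hh A hA => by
    obtain ⟨B, hB⟩ := n.norm g hg h hh (mapSL σ.symm A) fun v hv => by
      have h1 := hA v hv
      have h2 : (fun i => σ (e (h * v * h⁻¹) i)) = fun i => σ (ap (mapSL σ.symm A) (e v) i) := by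
        rw [← ap_mapSL, mapSL_symm]
        exact h1
      funext i
      exact σ.injective (congrFun h2 i)
    refine ⟨mapSL σ B, fun v hv => ?_⟩
    rw [ap_mapSL, hB v hv]

theorem QuadOver.map (q : QuadOver V A e w) : QuadOver V A (fun g i => σ (e g i)) (fun i => σ (w i)) where
  ne := fun h => q.ne (by
    funext i
    have := congrFun h i
    simpa using this)
  lin := fun a ha => by
    obtain ⟨B, hB, hB'⟩ := q.lin a ha
    refine ⟨mapSL σ B, by rw [ap_mapSL, hB], fun v hv => ?_⟩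
    rw [ap_mapSL, hB' v hv]
  full := fun B hB => by
    obtain ⟨a, ha, ha'⟩ := q.full (mapSL σ.symm B) (by
      have h2 : (fun i => σ (ap (mapSL σ.symm B) w i)) = fun i => σ (w i) := by
        rw [← ap_mapSL, mapSL_symm]
        exact hB
      funext i
      exact σ.injective (congrFun h2 i))
    refine ⟨a, ha, fun v hv => ?_⟩
    have h2 : (fun i => σ (e (a * v * a⁻¹) i)) = ap B (fun i => σ (e v i)) := by
      rw [ha' v hv, ← ap_mapSL, mapSL_symm]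
    exact h2
  cent := fun v hv hc => q.cent v hv (by
    obtain ⟨c, hc⟩ := hc
    refine ⟨σ.symm c, ?_⟩
    funext i
    have h1 := congrFun hc i
    simp only [Pi.smul_apply, smul_eq_mul] at h1 ⊢
    apply σ.injective
    rw [h1, map_mul, RingEquiv.apply_symm_apply])

end field

namespace Mut

variable {P₁ P₂ Q₁ Q₂ V₁ V₂ D₁ D₂ : Subgroup G} {a : ℕ} {F₁ F₂ : Type} [Field F₁] [Field F₂]
  {e₁ : G → Fin 2 → F₁} {w₁ : Fin 2 → F₁} {e₂ : G → Fin 2 → F₂} {w₂ : Fin 2 → F₂}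

/-- **#9675 (1)-(5) from natural modules** (`q ≥ 4`): the input of the closings `L₃(q)`, `Sp₄(q)`. -/
theorem close [Finite G] [Finite F₁] [Finite F₂] {S : Sylow 2 G} (h : Mut P₁ P₂ S Q₁ Q₂ V₁ V₂ a)
    (hcen₁ : ∀ g : G, (∀ u ∈ Q₁, g * u = u * g) → g ∈ Q₁) (hcen₂ : ∀ g : G, (∀ u ∈ Q₂, g * u = u * g) → g ∈ Q₂)
    (n₁ : NatTwo P₁ V₁ D₁ e₁) (q₁ : QuadOver V₁ V₂ e₁ w₁) (DV₁ : D₁ ≤ V₁) (Dn₁ : ∀ p ∈ P₁, ∀ d ∈ D₁, p * d * p⁻¹ ∈ D₁)
    (n₂ : NatTwo P₂ V₂ D₂ e₂) (q₂ : QuadOver V₂ V₁ e₂ w₂) (DV₂ : D₂ ≤ V₂) (Dn₂ : ∀ p ∈ P₂, ∀ d ∈ D₂, p * d * p⁻¹ ∈ D₂)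
    (hF : 2 < Nat.card F₁) :
    (∃ (X Y Z : G → F₁) (L₁ L₂ : Subgroup G), Co3 Q₁ Q₂ (Q₁ ⊓ Q₂) X Y Z ∧
        Lin S (Q₁ ⊔ Q₂) (Q₁ ⊓ Q₂) Q₁ P₁ L₁ ⊥ ∧ Lin S (Q₁ ⊔ Q₂) (Q₁ ⊓ Q₂) Q₂ P₂ L₂ ⊥) ∨
      ∃ (X Y Z Z' : G → F₁) (L₁ L₂ : Subgroup G), Co4 Q₁ Q₂ (Q₁ ⊓ Q₂) (CC P₁ Q₁ V₂) (CC P₂ Q₂ V₁) X Y Z Z' ∧
        Lin S (Q₁ ⊔ Q₂) (Q₁ ⊓ Q₂) Q₁ P₁ L₁ (CC P₁ Q₁ V₂) ∧
        Lin S (Q₁ ⊔ Q₂) (Q₁ ⊓ Q₂) Q₂ P₂ L₂ (CC P₂ Q₂ V₁) := by
  classical
  have c₁ := h.card_field n₁ q₁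
  have c₂ := h.symm.card_field n₂ q₂
  have : Fintype F₁ := Fintype.ofFinite F₁
  have : Fintype F₂ := Fintype.ofFinite F₂
  let σ : F₂ ≃+* F₁ := FiniteField.ringEquivOfCardEq (by
    rw [← Nat.card_eq_fintype_card, ← Nat.card_eq_fintype_card, ← c₁, ← c₂])
  have hF' : ∃ c : F₁, c ≠ 0 ∧ c ≠ 1 := by
    by_contra hc
    push Not at hc
    have h1 : (Finset.univ : Finset F₁) ⊆ {0, 1} := fun c _ => by
      by_cases h0 : c = 0
      · simp [h0]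
      · simp [hc c h0]
    have h2 := Finset.card_le_card h1
    have h3 : ({0, 1} : Finset F₁).card ≤ 2 := Finset.card_le_two
    rw [Finset.card_univ, ← Nat.card_eq_fintype_card] at h2
    omega
  obtain ⟨x, z, y, t, ω, L₁, m₁, l₁⟩ := h.exists_nat n₁ q₁ DV₁ Dn₁ hF'
  obtain ⟨x₂, z₂, y₂, t₂, ω₂, L₂, m₂, l₂⟩ := h.symm.exists_nat (n₂.map σ) (q₂.map σ) DV₂ Dn₂ hF'
  rcases h.toClose hcen₁ hcen₂ m₁ m₂ l₁ l₂ with ⟨X, Y, Z, h1, h2, h3⟩ | ⟨X, Y, Z, Z', h1, h2, h3⟩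
  · exact Or.inl ⟨X, Y, Z, L₁, L₂, h1, h2, h3⟩
  · exact Or.inr ⟨X, Y, Z, Z', L₁, L₂, h1, h2, h3⟩

end Mut

end Cfsg.Agent.Omega.FFOne
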