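import Mathlib
import Cfsg.Agent.Omega.FFOne.Main
import Cfsg.Agent.Omega.CloseA.Coord

/-!
# OMEGA / SQT, node SQ2 = FF-1: input of the closings `L₃(q)`, `Sp₄(q)` (bb #12688)

`LThree.co3`, `SpFour.co4`: the coordinates; `NatLin`: `L = ⟨A^P⟩ Q` induces `SL₂(F)` on `V / C_V(L)`;
`Mut.lin`, `Mut.lin'`: the structures `Lin` for the two parabolic subgroups; `Mut.faith`, `Mut.faith'`.
-/

set_option autoImplicit false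

open Subgroup

namespace Cfsg.Agent.Omega.FFOne

open Cfsg.Agent.Omega.CloseA

variable {G : Type*} [Group G]

theorem LThree.co3 {F : Type*} [Field F] {Q₁ Q₂ : Subgroup G} {x y z : G → F} {t₁ t₂ : G} {ω₁ ω₂ : F}
    (l : LThree Q₁ Q₂ (Q₁ ⊓ Q₂) x y z t₁ t₂ ω₁ ω₂) (b : Base Q₁ Q₂ (Q₁ ⊓ Q₂)) :
    Co3 Q₁ Q₂ (Q₁ ⊓ Q₂) x y z where
  sq₁ := b.sq₁
  sq₂ := b.sq₂
  inf := fun _ => mem_inf
  x_mul := l.x_mul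
  x_surj := l.x_surj
  x_ker := l.x_ker
  y_mul := l.y_mul
  y_surj := l.y_surj
  y_ker := l.y_ker
  z_mul := l.z_mul
  z_surj := l.z_surj
  z_inj := l.z_inj
  mem := b.mem
  com := l.com

theorem SpFour.co4 {F : Type*} [Field F] {Q₁ Q₂ C₁ C₂ : Subgroup G} {x y z z' : G → F} {t₁ t₂ : G} {ω₁ ω₂ : F}
    (l : SpFour Q₁ Q₂ (Q₁ ⊓ Q₂) C₁ C₂ x y z z' t₁ t₂ ω₁ ω₂) (b : Base Q₁ Q₂ (Q₁ ⊓ Q₂)) :
    Co4 Q₁ Q₂ (Q₁ ⊓ Q₂) C₁ C₂ x y z z' where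
  sq₁ := b.sq₁
  sq₂ := b.sq₂
  inf := fun _ => mem_inf
  x_mul := l.x_mul
  x_surj := l.x_surj
  x_ker := l.x_ker
  y_mul := l.y_mul
  y_surj := l.y_surj
  y_ker := l.y_ker
  z_mul := l.z_mul
  z'_mul := l.z'_mul
  z_surj := l.z_surj
  z_inj := l.z_inj
  z_ker := l.z_ker
  z'_ker := l.z'_ker
  mem := b.mem
  com := l.com
  com' := l.com'

/-- `L = ⟨A^P⟩ Q` induces `SL₂(F)` on `V / C_V(L)`, with respect to the coordinates `x, z`. -/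
structure NatLin {F : Type*} [Field F] (P Q V A L : Subgroup G) (x z : G → F) : Prop where
  AL : A ≤ L
  QL : Q ≤ L
  LP : L ≤ P
  Ln : ∀ p ∈ P, ∀ l ∈ L, p * l * p⁻¹ ∈ L
  lin : ∀ l ∈ L, ∃ a b c d : F, a * d - b * c = 1 ∧
    ∀ v ∈ V, x (l * v * l⁻¹) = a * x v + b * z v ∧ z (l * v * l⁻¹) = c * x v + d * z v
  all : ∀ a b : F, (a ≠ 0 ∨ b ≠ 0) → ∃ l ∈ L, ∀ v ∈ V, x (l * v * l⁻¹) = a * x v + b * z v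

/-- every element of `P` is `l s` with `l ∈ L`, `s ∈ S` -/
theorem dec_LS {P S Q V A L : Subgroup G} {a : ℕ} (o : Off P S Q V A a) (SP : S ≤ P) (AL : A ≤ L)
    (Ln : ∀ p ∈ P, ∀ l ∈ L, p * l * p⁻¹ ∈ L) {p : G} (hp : p ∈ P) : ∃ l ∈ L, ∃ s ∈ S, p = l * s := by
  let K : Subgroup G :=
    { carrier := {g | ∃ l ∈ L, ∃ s ∈ S, g = l * s}
      one_mem' := ⟨1, one_mem _, 1, one_mem _, by simp⟩
      mul_mem' := by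
        rintro _ _ ⟨l, hl, s, hs, rfl⟩ ⟨l', hl', s', hs', rfl⟩
        exact ⟨l * (s * l' * s⁻¹), mul_mem hl (Ln s (SP hs) l' hl'), s * s', mul_mem hs hs', by group⟩
      inv_mem' := by
        rintro _ ⟨l, hl, s, hs, rfl⟩
        refine ⟨s⁻¹ * l⁻¹ * s⁻¹⁻¹, Ln s⁻¹ (inv_mem (SP hs)) l⁻¹ (inv_mem hl), s⁻¹, inv_mem hs, by group⟩ }
  have h1 : P ≤ K := o.gen K (fun s hs => ⟨1, one_mem _, s, hs, by simp⟩) fun g hg w hw =>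
    ⟨g * w * g⁻¹, Ln g hg w (AL hw), 1, one_mem _, by simp⟩
  exact h1 hp

namespace Mut

variable {P₁ P₂ S Q₁ Q₂ V₁ V₂ L : Subgroup G} {a : ℕ} {F : Type*} [Field F] {x y z X Y Z : G → F} {t : G} {ω : F}

/-- `[Q₁, s] ≤ D`, `s ∈ S`, implies `s ∈ S₀` -/
theorem faith (h : Mut P₁ P₂ S Q₁ Q₂ V₁ V₂ a) {s : G} (hs : s ∈ S)
    (hc : ∀ u ∈ Q₁, s * u * s⁻¹ * u⁻¹ ∈ Q₁ ⊓ Q₂) : s ∈ Q₁ ⊔ Q₂ := by
  obtain ⟨w, hw, q, hq, e⟩ := h.o₁.act s hs fun v hv => by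
    have h1 := hc v (h.s₁.VQ hv)
    rw [mem_centralizer_iff]
    intro w hw
    exact (h.comm₂ h1.2 (h.s₂.VQ hw)).symm
  rw [e]
  exact mul_mem (mem_sup_right (h.s₂.VQ hw)) (mem_sup_left hq)

theorem faith₂ (h : Mut P₁ P₂ S Q₁ Q₂ V₁ V₂ a) {s : G} (hs : s ∈ S)
    (hc : ∀ u ∈ Q₂, s * u * s⁻¹ * u⁻¹ ∈ Q₁ ⊓ Q₂) : s ∈ Q₁ ⊔ Q₂ := by
  rw [sup_comm]
  exact h.symm.faith hs fun u hu => by rw [inf_comm]; exact hc u hu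

/-- the form of `faith` without an inverse -/
theorem faith' (h : Mut P₁ P₂ S Q₁ Q₂ V₁ V₂ a) {s : G} (hs : s ∈ S)
    (hc : ∀ u ∈ Q₁, s * u * s⁻¹ * u ∈ Q₁ ⊓ Q₂) : s ∈ Q₁ ⊔ Q₂ :=
  h.faith hs fun u hu => by rw [h.inv₁ hu]; exact hc u hu

theorem faith₂' (h : Mut P₁ P₂ S Q₁ Q₂ V₁ V₂ a) {s : G} (hs : s ∈ S)
    (hc : ∀ u ∈ Q₂, s * u * s⁻¹ * u ∈ Q₁ ⊓ Q₂) : s ∈ Q₁ ⊔ Q₂ :=
  h.faith₂ hs fun u hu => by rw [h.symm.inv₁ hu]; exact hc u hu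

theorem S_norm₁ (h : Mut P₁ P₂ S Q₁ Q₂ V₁ V₂ a) : ∀ s ∈ S, ∀ u ∈ Q₁, s * u * s⁻¹ ∈ Q₁ :=
  fun s hs => h.s₁.Qn s (h.s₁.SP hs)

theorem S_norm₂ (h : Mut P₁ P₂ S Q₁ Q₂ V₁ V₂ a) : ∀ s ∈ S, ∀ u ∈ Q₂, s * u * s⁻¹ ∈ Q₂ :=
  fun s hs => h.s₂.Qn s (h.s₂.SP hs)

theorem S_normD (h : Mut P₁ P₂ S Q₁ Q₂ V₁ V₂ a) : ∀ s ∈ S, ∀ u ∈ Q₁ ⊓ Q₂, s * u * s⁻¹ ∈ Q₁ ⊓ Q₂ :=
  fun s hs u hu => ⟨h.S_norm₁ s hs u hu.1, h.S_norm₂ s hs u hu.2⟩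

/-- `S₀ = Q₁Q₂ ≤ L` -/
theorem sup_le_L (h : Mut P₁ P₂ S Q₁ Q₂ V₁ V₂ a) (n : NatLin P₁ Q₁ V₁ V₂ L x z) : Q₁ ⊔ Q₂ ≤ L := by
  refine sup_le n.QL fun w hw => ?_
  obtain ⟨v, hv, d, hd, rfl⟩ := h.dec₂ hw
  exact mul_mem (n.AL hv) (n.QL hd.1)

variable [Finite G] {y' : G → F}

/-- the structure `Lin` for `(P₁, C₁)` -/
theorem lin (h : Mut P₁ P₂ S Q₁ Q₂ V₁ V₂ a) (hS : IsPGroup 2 S) (hcen : ∀ g : G, (∀ u ∈ Q₁, g * u = u * g) → g ∈ Q₁)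
    (hX : ∀ v ∈ V₁, X v = x v ∧ Z v = z v) (co : Co Q₁ Q₂ (Q₁ ⊓ Q₂) (CC P₁ Q₁ V₂) X Y Z t ω)
    (n : NatLin P₁ Q₁ V₁ V₂ L x z) : Lin S (Q₁ ⊔ Q₂) (Q₁ ⊓ Q₂) Q₁ P₁ L (CC P₁ Q₁ V₂) := by
  have hCn := h.C_norm
  have hVD : ∀ v ∈ V₁, v ∈ Q₁ ⊓ Q₂ ↔ x v = 0 := fun v hv => by
    rw [← (hX v hv).1]; exact (co.x_ker v (h.s₁.VQ hv)).symm
  have hVC : ∀ v ∈ V₁, v ∈ Q₁ ⊓ Q₂ → (v ∈ CC P₁ Q₁ V₂ ↔ z v = 0) := fun v hv hvD => by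
    rw [← (hX v hv).2]; exact (co.z_ker v hvD).symm
  have hLP : ∀ l ∈ L, l ∈ P₁ := fun l hl => n.LP hl
  -- `l ∈ L`, `l v c l⁻¹ ∈ D ↔ l v l⁻¹ ∈ D`
  have hmem : ∀ l ∈ L, ∀ v ∈ V₁, ∀ c ∈ CC P₁ Q₁ V₂, (l * (v * c) * l⁻¹ ∈ Q₁ ⊓ Q₂ ↔ x (l * v * l⁻¹) = 0) := by
    intro l hl v hv c hc
    rw [← hVD _ (h.s₁.Vn l (hLP l hl) v hv)]
    have e : l * (v * c) * l⁻¹ = (l * v * l⁻¹) * (l * c * l⁻¹) := by group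
    rw [e]
    exact mul_mem_cancel_right (h.C_le (hCn l (hLP l hl) c hc))
  -- lines for `l ∈ L`
  have hline : ∀ l ∈ L, (∃ d ∈ Q₁ ⊓ Q₂, l * d * l⁻¹ ∉ Q₁ ⊓ Q₂) → ∀ d ∈ Q₁ ⊓ Q₂, l * d * l⁻¹ ∈ Q₁ ⊓ Q₂ →
      d ∈ CC P₁ Q₁ V₂ := by
    rintro l hl ⟨d₀, hd₀, hnd⟩ d hd hd'
    obtain ⟨a, b, c, e, -, hl'⟩ := n.lin l hl
    obtain ⟨v₀, hv₀, c₀, hc₀, rfl⟩ := h.decC hd₀.1
    obtain ⟨v, hv, c₁, hc₁, rfl⟩ := h.decC hd.1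
    rw [hmem l hl _ hv₀ _ hc₀, (hl' v₀ hv₀).1] at hnd
    rw [hmem l hl _ hv _ hc₁, (hl' v hv).1] at hd'
    have h0 : x v₀ = 0 := (hVD _ hv₀).1 ((mul_mem_cancel_right (h.C_le hc₀)).1 hd₀)
    have hvD : v ∈ Q₁ ⊓ Q₂ := (mul_mem_cancel_right (h.C_le hc₁)).1 hd
    have h1 : x v = 0 := (hVD _ hv).1 hvD
    rw [h0, mul_zero, zero_add] at hnd
    rw [h1, mul_zero, zero_add] at hd'
    have hb : b ≠ 0 := fun hb => hnd (by rw [hb, zero_mul])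
    have h2 : z v = 0 := (mul_eq_zero.1 hd').resolve_left hb
    exact mul_mem ((hVC _ hv hvD).2 h2) hc₁
  refine ⟨h.s₁.SP, h.s₁.Qn, n.Ln, hCn, h.C_le, ?_, ?_, ?_, hcen⟩
  · -- `S ∩ L = S₀`
    intro s hs
    refine ⟨fun hsL => ?_, fun hs0 => h.sup_le_L n hs0⟩
    obtain ⟨a', b, c, d, hdet, hl⟩ := n.lin s hsL
    -- `b = 0`
    have hb : b = 0 := by
      obtain ⟨u, hu, hu1⟩ := co.z_surj 1
      obtain ⟨v, hv, c₁, hc₁, rfl⟩ := h.decC hu.1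
      have hvD : v ∈ Q₁ ⊓ Q₂ := (mul_mem_cancel_right (h.C_le hc₁)).1 hu
      have h1 : x v = 0 := (hVD _ hv).1 hvD
      have h2 : z v = 1 := by
        rw [co.z_mul _ hvD _ (h.C_le hc₁), (co.z_ker _ (h.C_le hc₁)).2 hc₁, add_zero, (hX v hv).2] at hu1
        exact hu1
      have h3 := (hVD _ (h.s₁.Vn s (h.s₁.SP hs) v hv)).1 (h.S_normD s hs v hvD)
      rw [(hl v hv).1, h1, h2, mul_zero, mul_one, zero_add] at h3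
      exact h3
    have hx : ∀ v ∈ V₁, x (s * v * s⁻¹) = a' * x v := fun v hv => by
      rw [(hl v hv).1, hb, zero_mul, add_zero]
    -- `a = 1`
    have hpow : ∀ k : ℕ, ∀ v ∈ V₁, x (s ^ k * v * (s ^ k)⁻¹) = a' ^ k * x v := by
      intro k
      induction k with
      | zero => intro v _; simp
      | succ k ih =>
        intro v hv
        have e : s ^ (k + 1) * v * (s ^ (k + 1))⁻¹ = s * (s ^ k * v * (s ^ k)⁻¹) * s⁻¹ := by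
          rw [pow_succ']; group
        rw [e, hx _ (h.s₁.Vn _ (pow_mem (h.s₁.SP hs) k) v hv), ih v hv, pow_succ']
        ring
    obtain ⟨k, hk⟩ := hS ⟨s, hs⟩
    have hk' : s ^ 2 ^ k = 1 := by simpa using congrArg Subtype.val hk
    have hchar : CharP F 2 := co.charTwo h.base
    have ha : a' = 1 := by
      obtain ⟨u, hu, hu1⟩ := co.x_surj 1
      obtain ⟨v, hv, c₁, hc₁, rfl⟩ := h.decC hu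
      have h1 : x v = 1 := by
        rw [co.x_mul _ (h.s₁.VQ hv) _ hc₁.1, (co.x_ker _ hc₁.1).2 (h.C_le hc₁), add_zero, (hX v hv).1] at hu1
        exact hu1
      have h2 := hpow (2 ^ k) v hv
      rw [hk', h1] at h2
      have h3 : a' ^ 2 ^ k = 1 := by
        simp only [one_mul, inv_one, mul_one, h1] at h2
        exact h2.symm
      have h4 : (a' - 1) ^ 2 ^ k = 0 := by
        rw [sub_pow_char_pow, h3, one_pow, sub_self]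
      exact sub_eq_zero.1 (pow_eq_zero_iff (pow_ne_zero k two_ne_zero) |>.1 h4)
    obtain ⟨w, hw, q, hq, e⟩ := h.o₁.act s hs fun v hv => by
      have hv' := h.s₁.Vn s (h.s₁.SP hs) v hv
      have h1 : s * v * s⁻¹ * v⁻¹ ∈ Q₁ ⊓ Q₂ := by
        have h2 : X (s * v * s⁻¹ * v⁻¹) = 0 := by
          rw [co.x_mul _ (h.s₁.VQ hv') _ (h.s₁.VQ (inv_mem hv)), add_inv' co.x_mul (h.s₁.VQ hv), (hX _ hv').1,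
            (hX v hv).1, hx v hv, ha, one_mul, add_neg_cancel]
        exact (co.x_ker _ (h.s₁.VQ (mul_mem hv' (inv_mem hv)))).1 h2
      rw [mem_centralizer_iff]
      intro w hw
      exact (h.comm₂ h1.2 (h.s₂.VQ hw)).symm
    rw [e]
    exact mul_mem (mem_sup_right (h.s₂.VQ hw)) (mem_sup_left hq)
  · -- the lines cover `Q₁`
    intro u hu
    obtain ⟨v, hv, c, hc, rfl⟩ := h.decC hu
    by_cases h0 : x v = 0 ∧ z v = 0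
    · refine ⟨1, one_mem _, ?_⟩
      have := (hmem 1 (one_mem _) v hv c hc).2 (by simpa using h0.1)
      exact this
    · have h1 : z v ≠ 0 ∨ -x v ≠ 0 := by
        by_contra hc'
        push Not at hc'
        exact h0 ⟨neg_eq_zero.1 hc'.2, hc'.1⟩
      obtain ⟨l, hl, hl'⟩ := n.all _ _ h1
      refine ⟨l, hLP l hl, (hmem l hl v hv c hc).2 ?_⟩
      rw [hl' v hv]; ring
  · -- two lines meet in `C₁`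
    rintro p hp ⟨d₀, hd₀, hnd⟩ d hd hd'
    obtain ⟨l, hl, s, hs, rfl⟩ := dec_LS h.o₁ h.s₁.SP n.AL n.Ln hp
    have e : ∀ u : G, l * s * u * (l * s)⁻¹ = l * (s * u * s⁻¹) * l⁻¹ := fun u => by group
    rw [e] at hnd hd'
    have h1 := hline l hl ⟨_, h.S_normD s hs _ hd₀, hnd⟩ _ (h.S_normD s hs _ hd) hd'
    have h2 := hCn s⁻¹ (inv_mem (h.s₁.SP hs)) _ h1
    have e2 : s⁻¹ * (s * d * s⁻¹) * s⁻¹⁻¹ = d := by group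
    rwa [e2] at h2

omit [Finite G] in
/-- normal 2-subgroups of `N_G(S₀)` lie in the Sylow 2-subgroup `S` -/
theorem normal_le (S : Sylow 2 G) {S₀ : Subgroup G} (hS₀ : ∀ s ∈ (S : Subgroup G), ∀ u ∈ S₀, s * u * s⁻¹ ∈ S₀)
    (R : Subgroup G) (hR : IsPGroup 2 R)
    (hn : ∀ g ∈ normalizer (S₀ : Set G), ∀ r ∈ R, g * r * g⁻¹ ∈ R) : R ≤ S := by
  have hSN : (S : Subgroup G) ≤ normalizer (S₀ : Set G) := by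
    intro s hs
    rw [mem_normalizer_iff]
    intro u
    refine ⟨hS₀ s hs u, fun hu => ?_⟩
    have h1 := hS₀ s⁻¹ (inv_mem hs) _ hu
    have e : s⁻¹ * (s * u * s⁻¹) * s⁻¹⁻¹ = u := by group
    rwa [e] at h1
  have hSR : (S : Subgroup G) ≤ normalizer (R : Set G) := by
    intro s hs
    rw [mem_normalizer_iff]
    intro r
    refine ⟨hn s (hSN hs) r, fun hr => ?_⟩
    have h1 := hn s⁻¹ (inv_mem (hSN hs)) _ hr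
    have e : s⁻¹ * (s * r * s⁻¹) * s⁻¹⁻¹ = r := by group
    rwa [e] at h1
  have h1 : IsPGroup 2 (R ⊔ S : Subgroup G) := hR.to_sup_of_normal_left' S.2 hSR
  have h2 := S.is_maximal' h1 le_sup_right
  rw [← h2]
  exact le_sup_left

variable {S : Sylow 2 G} {L₁ L₂ : Subgroup G} [Finite F] {x₂ z₂ y₂ : G → F} {t₁ t₂ : G} {ω₁ ω₂ : F}

/-- **#9675 (1)-(5)**: the input of the closings `L₃(q)` and `Sp₄(q)`. -/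
theorem toClose (h : Mut P₁ P₂ S Q₁ Q₂ V₁ V₂ a) (hcen₁ : ∀ g : G, (∀ u ∈ Q₁, g * u = u * g) → g ∈ Q₁)
    (hcen₂ : ∀ g : G, (∀ u ∈ Q₂, g * u = u * g) → g ∈ Q₂)
    (n₁ : NatCo P₁ Q₁ V₁ V₂ x z y t₁ ω₁) (n₂ : NatCo P₂ Q₂ V₂ V₁ x₂ z₂ y₂ t₂ ω₂)
    (l₁ : NatLin P₁ Q₁ V₁ V₂ L₁ x z) (l₂ : NatLin P₂ Q₂ V₂ V₁ L₂ x₂ z₂) :
    (∃ X Y Z : G → F, Co3 Q₁ Q₂ (Q₁ ⊓ Q₂) X Y Z ∧ Lin S (Q₁ ⊔ Q₂) (Q₁ ⊓ Q₂) Q₁ P₁ L₁ ⊥ ∧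
        Lin S (Q₁ ⊔ Q₂) (Q₁ ⊓ Q₂) Q₂ P₂ L₂ ⊥) ∨
      ∃ (X Y Z Z' : G → F), Co4 Q₁ Q₂ (Q₁ ⊓ Q₂) (CC P₁ Q₁ V₂) (CC P₂ Q₂ V₁) X Y Z Z' ∧
        Lin S (Q₁ ⊔ Q₂) (Q₁ ⊓ Q₂) Q₁ P₁ L₁ (CC P₁ Q₁ V₂) ∧
        Lin S (Q₁ ⊔ Q₂) (Q₁ ⊓ Q₂) Q₂ P₂ L₂ (CC P₂ Q₂ V₁) := by
  obtain ⟨X, Y, Z, h1, h2, co₁⟩ := h.exists_co n₁
  obtain ⟨X₂, Y₂, Z₂, h3, h4, co₂⟩ := h.symm.exists_co n₂
  have m₁ := h.lin S.2 hcen₁ h1 co₁ l₁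
  have m₂ := h.symm.lin S.2 hcen₂ h3 co₂ l₂
  rw [inf_comm] at co₂
  rw [inf_comm Q₂, sup_comm Q₂] at m₂
  have hS₀ : ∀ s ∈ (S : Subgroup G), ∀ u ∈ Q₁ ⊔ Q₂, s * u * s⁻¹ ∈ Q₁ ⊔ Q₂ := by
    intro s hs u hu
    obtain ⟨v, hv, w, hw, rfl⟩ := h.mem_S₀.1 hu
    have e : s * (v * w) * s⁻¹ = (s * v * s⁻¹) * (s * w * s⁻¹) := by group
    rw [e]
    exact mul_mem (mem_sup_left (h.S_norm₁ s hs v hv)) (mem_sup_right (h.S_norm₂ s hs w hw))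
  have hN : ∀ R : Subgroup G, IsPGroup 2 R → R ≤ normalizer ((Q₁ ⊔ Q₂ : Subgroup G) : Set G) →
      (∀ g ∈ normalizer ((Q₁ ⊔ Q₂ : Subgroup G) : Set G), ∀ r ∈ R, g * r * g⁻¹ ∈ R) → R ≤ S :=
    fun R hR _ hn => normal_le S hS₀ R hR hn
  have hc : ∀ g : G, (∀ s ∈ Q₁ ⊔ Q₂, g * s = s * g) → g ∈ Q₁ ⊔ Q₂ := fun g hg =>
    mem_sup_left (hcen₁ g fun u hu => hg u (mem_sup_left hu))
  rcases five h.base co₁ co₂ h.C_inf (h.hR hN hc) with ⟨hC₁, hC₂, ω, hl⟩ | ⟨Z', ω, hl⟩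
  · rw [hC₁] at m₁
    rw [hC₂] at m₂
    exact Or.inl ⟨X, Y, Z, hl.co3 h.base, m₁, m₂⟩
  · exact Or.inr ⟨X, Y, Z, Z', hl.co4 h.base, m₁, m₂⟩

end Mut

end Cfsg.Agent.Omega.FFOne
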